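import Cfsg.Agent.Lib.TwoRadical.SUThreeData
import Cfsg.Agent.Lib.Coprime.Action

/-!
# The derived group of `SU(3,2)` is the group of order 54
-/

set_option autoImplicit false

namespace CfsgLib.TwoRadical

open GF4 Matrix
open scoped commutatorElement

theorem map_commutator_eq : (commutator SU32).map SU32.subtype = mono := by
  classical
  have hM : ∀ r ∈ [matF, matG], r ∈ Subgroup.normalizer (mono : Set SL3) := by
    intro r hr
    refine CfsgLib.Coprime.mem_normalizer_of_forall_conj ?_
    intro x hx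
    rw [mono, T54.range_toHom] at hx
    show r * x * r⁻¹ ∈ mono
    induction hx using Subgroup.closure_induction with
    | mem x hx =>
      exact reps_conj r hr x (by simpa using hx)
    | one => simp
    | mul x y _ _ ihx ihy => simpa [mul_assoc] using mul_mem ihx ihy
    | inv x _ ih => simpa [mul_assoc] using inv_mem ih
  set N := SU32 ⊓ Subgroup.normalizer (mono : Set SL3) with hN
  have hle : mono ≤ N := le_inf mono_le Subgroup.le_normalizer
  have hreps : ∀ i, reps i ∈ N := fun i => ⟨reps_mem i, by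
    fin_cases i
    exacts [one_mem _, hM matF (by simp), hM matG (by simp), mul_mem (hM matF (by simp)) (hM matG (by simp))]⟩
  have h4 : 4 ≤ (mono.subgroupOf N).index := by
    rw [Subgroup.index_eq_card]
    refine le_trans (le_of_eq (Fintype.card_fin 4).symm) ?_
    rw [← Nat.card_eq_fintype_card]
    refine Nat.card_le_card_of_injective (fun i => QuotientGroup.mk (⟨reps i, hreps i⟩ : N)) ?_
    intro i j h
    by_contra hij
    exact reps_distinct i j hij (Subgroup.mem_subgroupOf.mp (QuotientGroup.eq.mp h))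
  have hcm : Nat.card (mono.subgroupOf N) = 54 := by
    rw [Nat.card_congr (Subgroup.subgroupOfEquivOfLe hle).toEquiv, card_mono]
  have hNeq : N = SU32 := by
    refine Subgroup.eq_of_le_of_card_ge inf_le_left ?_
    rw [card_SU32, ← (mono.subgroupOf N).card_mul_index, hcm]
    omega
  have hnormal : (mono.subgroupOf SU32).Normal :=
    Subgroup.normal_subgroupOf_of_le_normalizer (hNeq ▸ inf_le_right)
  have hidx : (mono.subgroupOf SU32).index = 4 := by
    have h := (mono.subgroupOf SU32).card_mul_index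
    rw [Nat.card_congr (Subgroup.subgroupOfEquivOfLe mono_le).toEquiv, card_mono, card_SU32] at h
    omega
  apply le_antisymm
  · rw [Subgroup.map_le_iff_le_comap]
    show commutator SU32 ≤ mono.subgroupOf SU32
    have hcomm : ∀ a b : SU32 ⧸ mono.subgroupOf SU32, a * b = b * a := by
      have : Fact (Nat.Prime 2) := ⟨Nat.prime_two⟩
      exact fun a b => IsPGroup.commutative_of_card_eq_prime_sq (p := 2)
        (show Nat.card (SU32 ⧸ mono.subgroupOf SU32) = 2 ^ 2 by rw [← Subgroup.index_eq_card, hidx]; rfl) a b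
    rw [commutator_def, Subgroup.commutator_le]
    intro a _ b _
    rw [← QuotientGroup.eq_one_iff, ← QuotientGroup.mk'_apply, map_commutatorElement,
      commutatorElement_eq_one_iff_mul_comm]
    exact hcomm _ _
  · set p : ZMod 3 × ZMod 3 := (0, 2) with hp
    have hn : T54.nine p = T54.gc := rfl
    have h0 : T54.toHom tri_mat (T54.nine p) ∈ (commutator SU32).map SU32.subtype := by
      rw [hn, T54.toHom_gc, ← commutator_matC]
      refine pow_mem (Subgroup.mem_map.mpr ⟨⁅(⟨matF, matF_mem⟩ : SU32), ⟨matG, matG_mem⟩⁆, ?_, ?_⟩) 3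
      · exact Subgroup.commutator_mem_commutator (Subgroup.mem_top _) (Subgroup.mem_top _)
      · simp [commutatorElement_def]
    have hconj : ∀ g ∈ mono, ∀ x ∈ (commutator SU32).map SU32.subtype,
        g * x * g⁻¹ ∈ (commutator SU32).map SU32.subtype := by
      rintro g hg _ ⟨x, hx, rfl⟩
      have hnm : (commutator SU32).Normal := inferInstance
      refine Subgroup.mem_map.mpr ⟨(⟨g, mono_le hg⟩ : SU32) * x * (⟨g, mono_le hg⟩ : SU32)⁻¹,
        hnm.conj_mem x hx _, ?_⟩
      rw [map_mul, map_mul, map_inv, Subgroup.subtype_apply, Subgroup.subtype_apply]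
    have hall : ∀ q, T54.toHom tri_mat (T54.nine q) ∈ (commutator SU32).map SU32.subtype := by
      intro q
      obtain ⟨g, hg⟩ := T54.nine_conj q
      obtain ⟨g', hg'⟩ := T54.nine_conj p
      rw [← hg, show g * T54.ga * g⁻¹ = (g * g'⁻¹) * T54.nine p * (g * g'⁻¹)⁻¹ by rw [← hg']; group,
        map_mul, map_mul, map_inv]
      exact hconj _ ⟨_, rfl⟩ _ h0
    rw [mono, T54.range_toHom, Subgroup.closure_le]
    rintro x (rfl | rfl | rfl)
    · have := hall (0, 0); rwa [T54.nine_zero, T54.toHom_ga] at this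
    · have := hall (2, 0)
      rwa [show T54.nine (2, 0) = T54.gb from rfl, T54.toHom_gb] at this
    · have := hall (0, 2)
      rwa [show T54.nine (0, 2) = T54.gc from rfl, T54.toHom_gc] at this

/-- The derived group of `SU(3,2)` over `GF4`. -/
theorem derived_equiv : Nonempty (T54 ≃* commutator SU32) :=
  ⟨((MonoidHom.ofInjective (T54.toHom_injective tri_mat zel_mat_ne)).trans
    (MulEquiv.subgroupCongr (map_commutator_eq.symm))).trans
    ((commutator SU32).equivMapOfInjective SU32.subtype SU32.subtype_injective).symm⟩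

variable {F : Type} [Field F] [Fintype F]

/-- Field isomorphisms act on the special unitary group. -/
theorem su_congr (hF : Fintype.card F = 4) : Nonempty (SU32 ≃* Cfsg.SU 3 F 2) := by
  obtain ⟨φ⟩ : Nonempty (GF4 ≃+* F) := ⟨FiniteField.ringEquivOfCardEq (by rw [GF4.card_four, hF])⟩
  let f : SL3 ≃* SpecialLinearGroup (Fin 3) F :=
    MonoidHom.toMulEquiv (SpecialLinearGroup.map φ.toRingHom) (SpecialLinearGroup.map φ.symm.toRingHom)
      (MonoidHom.ext fun g => Subtype.ext (Matrix.ext fun i j => φ.symm_apply_apply _))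
      (MonoidHom.ext fun g => Subtype.ext (Matrix.ext fun i j => φ.apply_symm_apply _))
  have hherm : ∀ u v, φ (Cfsg.hermForm 3 GF4 2 u v) = Cfsg.hermForm 3 F 2 (φ ∘ u) (φ ∘ v) := fun u v => by
    simp [Cfsg.hermForm, map_sum, map_mul, map_pow]
  have hmv : ∀ (g : SL3) (u : Fin 3 → GF4), (f g).1 *ᵥ (φ ∘ u) = φ ∘ (g.1 *ᵥ u) := fun g u => by
    funext i; exact (φ.toRingHom.map_mulVec g.1 u i).symm
  have hsurj : ∀ u : Fin 3 → F, ∃ u', φ ∘ u' = u := fun u => ⟨φ.symm ∘ u, by funext i; simp⟩
  have key : ∀ g, g ∈ SU32 ↔ f g ∈ Cfsg.SU 3 F 2 := by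
    intro g
    rw [CfsgLib.ClassicalGroups.mem_SU_iff, CfsgLib.ClassicalGroups.mem_SU_iff]
    constructor
    · intro h u v
      obtain ⟨u', rfl⟩ := hsurj u
      obtain ⟨v', rfl⟩ := hsurj v
      rw [hmv, hmv, ← hherm, ← hherm, h]
    · intro h u v
      have := h (φ ∘ u) (φ ∘ v)
      rw [hmv, hmv, ← hherm, ← hherm] at this
      exact φ.injective this
  refine ⟨(f.subgroupMap SU32).trans (MulEquiv.subgroupCongr ?_)⟩
  ext x
  rw [Subgroup.mem_map]
  exact ⟨fun ⟨g, hg, hx⟩ => hx ▸ (key g).mp hg,
    fun hx => ⟨f.symm x, (key _).mpr (by rwa [f.apply_symm_apply]), f.apply_symm_apply x⟩⟩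

theorem commutator_equiv {A B : Type*} [Group A] [Group B] (e : A ≃* B) :
    Nonempty (commutator A ≃* commutator B) :=
  ⟨((commutator A).equivMapOfInjective e.toMonoidHom e.injective).trans (MulEquiv.subgroupCongr (by
    rw [commutator_def, Subgroup.map_commutator, Subgroup.map_top_of_surjective _ e.surjective, ← commutator_def]))⟩

theorem derived_equiv_of_card (hF : Fintype.card F = 4) : Nonempty (T54 ≃* commutator (Cfsg.SU 3 F 2)) := by
  obtain ⟨e⟩ := su_congr hF
  obtain ⟨e'⟩ := commutator_equiv e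
  obtain ⟨e''⟩ := derived_equiv
  exact ⟨e''.trans e'⟩

end CfsgLib.TwoRadical
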