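import Cfsg.Agent.Lib.TwoRadical.Plane
import Cfsg.Agent.Lib.ThreeTrans.WidthOne
import Cfsg.Agent.Lib.Involutions.Basic
import Cfsg.Agent.Lib.LocalEven.SFour

/-!
# Faithful groups generated by a class without commuting pairs: order 6 or 54
-/

set_option autoImplicit false

namespace CfsgLib.TwoRadical

open CfsgLib.ThreeTrans

variable {H : Type*} [Group H] [Finite H] {V : Type*} [AddCommGroup V] [DistribMulAction H V] {D : Set H}

/-- With all pairs non-commuting the group is `S₃` or the group of order 54. -/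
theorem width_one (M : IsMod V D) (hgen : Subgroup.closure D = ⊤)
    (faith : ∀ g : H, (∀ v : V, g • v = v) → g = 1)
    (far : ∀ d ∈ D, ∀ e ∈ D, Commute d e → d = e) (h2 : ∃ d ∈ D, ∃ e ∈ D, d ≠ e) :
    Nonempty (H ≃* Equiv.Perm (Fin 3)) ∨ Nonempty (T54 ≃* H) := by
  classical
  have : Fact (Nat.Prime 3) := ⟨Nat.prime_three⟩
  have hset := M.closed.set
  have hE : WidthOne.Braided D := ⟨fun x hx => M.sq hx, fun x hx y hy => by
      by_cases h : Commute x y
      · rw [far x hx y hy h]
      · exact braid hset hx hy h, fun x hx y hy => conj_mem_left M.closed hx hy⟩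
  set P := Subgroup.closure {z | ∃ x ∈ D, ∃ y ∈ D, z = x * y} with hPdef
  have hPp : IsPGroup 3 P := WidthOne.isPGroup_products hE
  have hPD : ∀ {x y : H}, x ∈ D → y ∈ D → x * y ∈ P := fun hx hy =>
    Subgroup.subset_closure ⟨_, hx, _, hy, rfl⟩
  have hPn : ∀ g : H, ∀ y ∈ P, g * y * g⁻¹ ∈ P := by
    intro g y hy
    induction hy using Subgroup.closure_induction with
    | mem y hy =>
      obtain ⟨x, hx, w, hw, rfl⟩ := hy
      have := hPD (M.closed.conj g x hx) (M.closed.conj g w hw)
      simpa [mul_assoc] using this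
    | one => simp
    | mul a b _ _ iha ihb => simpa [mul_assoc] using mul_mem iha ihb
    | inv a _ ih => simpa [mul_assoc] using inv_mem ih
  -- an element central modulo the centre and not centralising some member
  set Z := Subgroup.center H with hZ
  obtain ⟨x, hxP, hx2, a, ha, hxa⟩ : ∃ x ∈ P, (∀ y ∈ P, x * y * x⁻¹ * y⁻¹ ∈ Z) ∧ ∃ a ∈ D, ¬ Commute x a := by
    set Q := P.map (QuotientGroup.mk' Z) with hQ
    have hnt : Nontrivial Q := by
      obtain ⟨d, hd, e, he, hde⟩ := h2
      refine ⟨⟨QuotientGroup.mk' Z (d * e), Subgroup.mem_map_of_mem _ (hPD hd he)⟩, 1, fun h => hde ?_⟩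
      have h1 : d * e ∈ Z := (QuotientGroup.eq_one_iff _).mp (congrArg Subtype.val h)
      refine far d hd e he ?_
      have h3 := Subgroup.mem_center_iff.mp h1 d
      rw [← mul_assoc, M.sq hd, one_mul] at h3
      rw [commute_iff_eq]
      conv_rhs => rw [h3]
      rw [mul_assoc, mul_assoc, M.sq hd, mul_one]
    have := (hPp.map (QuotientGroup.mk' Z)).center_nontrivial
    obtain ⟨⟨⟨q, hqQ⟩, hqc⟩, hq1⟩ := exists_ne (1 : Subgroup.center Q)
    obtain ⟨x, hxP, rfl⟩ := Subgroup.mem_map.mp hqQ
    refine ⟨x, hxP, fun y hy => ?_, ?_⟩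
    · have h := congrArg Subtype.val (Subgroup.mem_center_iff.mp hqc ⟨_, Subgroup.mem_map_of_mem _ hy⟩)
      simp only [Subgroup.coe_mul] at h
      rw [← QuotientGroup.eq_one_iff, ← QuotientGroup.mk'_apply, map_mul, map_mul, map_mul, map_inv,
        map_inv, ← h, mul_inv_cancel_right, mul_inv_cancel]
    · by_contra hall
      push Not at hall
      refine hq1 (Subtype.ext (Subtype.ext ?_))
      exact (QuotientGroup.eq_one_iff _).mpr (mem_center_of_commute hgen hall)
  set b := x * a * x⁻¹ with hb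
  have hbD : b ∈ D := M.closed.conj x a ha
  have hba : b ≠ a := fun h => hxa (by
    rw [commute_iff_eq]; exact mul_inv_eq_iff_eq_mul.mp h)
  have hab : ¬ Commute a b := fun h => hba (far a ha b hbD h).symm
  have haa := M.sq ha
  have hai : a⁻¹ = a := inv_eq hset ha
  set u := a * b with hu
  have huP : u ∈ P := hPD ha hbD
  have hu3 : u ^ 3 = 1 := M.cube ha hbD hab
  have hu2 : ∀ y ∈ P, u * y * u⁻¹ * y⁻¹ ∈ Z := by
    intro y hy
    have haya : a * y * a ∈ P := by simpa [hai] using hPn a y hy
    have hw : a * x * a * y * (a * x * a)⁻¹ * y⁻¹ ∈ Z := by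
      have h := hx2 _ haya
      have e : a * x * a * y * (a * x * a)⁻¹ * y⁻¹ = a * (x * (a * y * a) * x⁻¹ * (a * y * a)⁻¹) * a⁻¹ := by
        simp [mul_assoc, hai, haa]
      rw [e]
      exact Subgroup.Normal.conj_mem inferInstance _ h a
    have hxi : x⁻¹ * y * x⁻¹⁻¹ * y⁻¹ ∈ Z := by
      have h := Subgroup.inv_mem _ (hx2 _ (show x⁻¹ * y * x ∈ P from mul_mem (mul_mem (inv_mem hxP) hy) hxP))
      have e : (x * (x⁻¹ * y * x) * x⁻¹ * (x⁻¹ * y * x)⁻¹)⁻¹ = x⁻¹ * y * x⁻¹⁻¹ * y⁻¹ := by group
      rwa [e] at h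
    have e : u * y * u⁻¹ * y⁻¹ = a * x * a * (x⁻¹ * y * x⁻¹⁻¹ * y⁻¹) * (a * x * a)⁻¹ *
        (a * x * a * y * (a * x * a)⁻¹ * y⁻¹) := by
      rw [hu, hb]; group
    rw [e]
    exact mul_mem (Subgroup.Normal.conj_mem inferInstance _ hxi _) hw
  -- the values
  set κ : H → H := fun y => u * y * u⁻¹ * y⁻¹ with hκ
  have hκmul : ∀ y ∈ P, ∀ w ∈ P, κ (y * w) = κ y * κ w := by
    intro y hy w hw
    have hc := Subgroup.mem_center_iff.mp (hu2 w hw) y
    simp only [hκ]
    calc u * (y * w) * u⁻¹ * (y * w)⁻¹ = u * y * u⁻¹ * (u * w * u⁻¹ * w⁻¹) * y⁻¹ := by group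
      _ = u * y * u⁻¹ * (y⁻¹ * y) * (u * w * u⁻¹ * w⁻¹) * y⁻¹ := by group
      _ = u * y * u⁻¹ * y⁻¹ * (y * (u * w * u⁻¹ * w⁻¹)) * y⁻¹ := by group
      _ = _ := by rw [hc]; group
  have hzel : ∀ c ∈ D, zel a b c = κ (a * c) := fun c hc => by
    simp only [hκ, zel, hu, mul_inv_rev, inv_eq hset hc, inv_eq hset hbD, hai]
  have hκ3 : ∀ y ∈ P, κ y ^ 3 = 1 := by
    intro y hy
    have hcy : Commute (κ y) y := (Subgroup.mem_center_iff.mp (hu2 y hy) y).symm
    have h1 : (κ y * y) = u * y * u⁻¹ := by simp [hκ]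
    have hy3 : κ (y * y * y) = κ y ^ 3 := by
      rw [hκmul _ (mul_mem hy hy) _ hy, hκmul _ hy _ hy, pow_succ, pow_two]
    have hcu : Commute (κ y) u := (Subgroup.mem_center_iff.mp (hu2 y hy) u).symm
    have h2 : ∀ n : ℕ, u ^ n * y * (u ^ n)⁻¹ = κ y ^ n * y := by
      intro n
      induction n with
      | zero => simp
      | succ n ih =>
        calc u ^ (n + 1) * y * (u ^ (n + 1))⁻¹ = u * (u ^ n * y * (u ^ n)⁻¹) * u⁻¹ := by
              rw [pow_succ']; group
          _ = u * κ y ^ n * y * u⁻¹ := by rw [ih]; group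
          _ = κ y ^ n * (u * y * u⁻¹) := by rw [← (hcu.pow_left n).eq]; group
          _ = _ := by rw [pow_succ, mul_assoc (κ y ^ n) (κ y), h1]
    have h3 := h2 3
    rw [hu3, one_mul, inv_one, mul_one] at h3
    exact mul_eq_right.mp h3.symm
  -- collinear members
  set L : Set H := {a, b, a * b * a} with hL
  have hline : ∀ c ∈ L, c ∈ D := by
    rintro c (rfl | rfl | rfl)
    exacts [ha, hbD, conj_mem_left M.closed ha hbD]
  have hκL : ∀ c ∈ L, zel a b c = 1 := by
    have hb2 := M.sq hbD
    rintro c (rfl | rfl | rfl)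
    · simp [zel, mul_assoc, haa, mul_self_mul hset hbD]
    · simp [zel, mul_assoc, mul_self_mul hset ha, mul_self_mul hset hbD, haa]
    · simp [zel, mul_assoc, mul_self_mul hset ha, mul_self_mul hset hbD, haa, hb2]
  have hplane : ∀ c ∈ D, c ∉ L → Plane D a b c := by
    intro c hc hcL
    simp only [hL, Set.mem_insert_iff, Set.mem_singleton_iff, not_or] at hcL
    refine ⟨ha, hbD, hc, hab, fun h => hcL.1 (far a ha c hc h).symm, fun h => hcL.2.1 (far b hbD c hc h).symm,
      fun h => hcL.2.2 ?_⟩
    have h1 := far b hbD _ (conj_mem_left M.closed ha hc) h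
    rw [h1]
    simp [mul_assoc, haa, mul_self_mul hset ha]
  have hzne : ∀ c, ∀ P' : Plane D a b c, zel a b c ≠ 1 := by
    intro c P' h
    have hall : ∀ v : V, (a * b) • v = v := fun v => by
      obtain ⟨h1, h2, -⟩ := P'.fixed_of_zel M (v := v) (by rw [h, one_smul])
      rw [mul_smul, h2, h1]
    exact P'.ab_eq_one_false M (faith _ hall)
  -- fixed points of a value are fixed by `u`
  have hval : ∀ y ∈ P, κ y ≠ 1 → ∀ v : V, κ y • v = v → u • v = v := by
    intro y hy hne v hv
    set c := y * a * y⁻¹ with hc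
    have hcD : c ∈ D := M.closed.conj y a ha
    have e : zel a b c = κ y := by
      have haya : a * y * a ∈ P := by simpa [hai] using hPn a y hy
      rw [hzel c hcD, show a * c = a * y * a * y⁻¹ by rw [hc]; simp [mul_assoc],
        hκmul _ haya _ (inv_mem hy)]
      have h1 : κ y⁻¹ = (κ y)⁻¹ := eq_inv_of_mul_eq_one_left (by
        rw [← hκmul _ (inv_mem hy) _ hy]; simp [hκ])
      have h2 : κ (a * y * a) = a * (u⁻¹ * y * u * y⁻¹) * a⁻¹ := by
        have hau : a * u⁻¹ * a = u := by
          rw [hu, mul_inv_rev, inv_eq hset hbD, hai]; simp [mul_assoc, haa]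
        simp only [hκ]
        conv_lhs => rw [← hau]
        simp [mul_assoc, hai, mul_self_mul hset ha]
      have h3 : u⁻¹ * y * u * y⁻¹ = (κ y)⁻¹ := by
        have hc : Commute (κ y) u := (Subgroup.mem_center_iff.mp (hu2 y hy) u).symm
        rw [eq_inv_iff_mul_eq_one]
        calc u⁻¹ * y * u * y⁻¹ * κ y = u⁻¹ * y * u * (y⁻¹ * κ y) := by group
          _ = u⁻¹ * y * u * (κ y * y⁻¹) := by
            rw [((Subgroup.mem_center_iff.mp (hu2 y hy) y⁻¹))]
          _ = u⁻¹ * y * (u * κ y) * y⁻¹ := by group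
          _ = u⁻¹ * (y * κ y) * u * y⁻¹ := by rw [← hc.eq]; group
          _ = u⁻¹ * (κ y * y) * u * y⁻¹ := by rw [Subgroup.mem_center_iff.mp (hu2 y hy) y]
          _ = _ := by simp only [hκ]; group
      have h4 : (κ y)⁻¹ * (κ y)⁻¹ = κ y := by
        rw [← mul_inv_rev, inv_eq_iff_mul_eq_one]
        have := hκ3 y hy
        simpa [pow_succ, mul_assoc] using this
      have hcen : a * (κ y)⁻¹ * a⁻¹ = (κ y)⁻¹ := by
        rw [Subgroup.mem_center_iff.mp (inv_mem (hu2 y hy)) a, mul_inv_cancel_right]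
      rw [h2, h3, hcen, h1, h4]
    have hcL : c ∉ L := fun h => hne (e.symm.trans (hκL c h))
    obtain ⟨h1, h2, -⟩ := (hplane c hcD hcL).fixed_of_zel M (v := v) (e ▸ hv)
    rw [hu, mul_smul, h2, h1]
  by_cases hoff : ∃ c ∈ D, c ∉ L
  swap
  · push Not at hoff
    left
    have hgen' : Subgroup.closure ({a, b} : Set H) = ⊤ := by
      refine eq_top_of_conj_invariant hgen fun c hc => ?_
      have hc' := hoff c hc
      simp only [hL, Set.mem_insert_iff, Set.mem_singleton_iff] at hc'
      rcases hc' with rfl | rfl | rfl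
      · exact Subgroup.subset_closure (by simp)
      · exact Subgroup.subset_closure (by simp)
      · exact mul_mem (mul_mem (Subgroup.subset_closure (by simp)) (Subgroup.subset_closure (by simp)))
          (Subgroup.subset_closure (by simp))
    have ho : orderOf (a * b) = 3 := orderOf_mul_of_not_commute hset ha hbD hab
    obtain ⟨e⟩ := CfsgLib.Involutions.closure_pair_mulEquiv_dihedral (hset.1 a ha) (hset.1 b hbD)
    obtain ⟨f⟩ := CfsgLib.LocalEven.SFour.dihedralThree_mulEquiv
    rw [ho] at e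
    exact ⟨((Subgroup.topEquiv.symm.trans (MulEquiv.subgroupCongr hgen'.symm)).trans e).trans f⟩
  obtain ⟨c, hc, hcL⟩ := hoff
  right
  have P₁ := hplane c hc hcL
  have T := P₁.tri M
  set k := zel a b c with hk
  have hk1 : k ≠ 1 := hzne c P₁
  -- there are only three values
  have hthree : ∀ d ∈ D, zel a b d = 1 ∨ zel a b d = k ∨ zel a b d = k⁻¹ := by
    intro d hd
    by_contra hcon
    push Not at hcon
    obtain ⟨l1, lk, lki⟩ := hcon
    set l := zel a b d with hl
    have hacP : a * c ∈ P := hPD ha hc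
    have hadP : a * d ∈ P := hPD ha hd
    have ek : κ (a * c) = k := (hzel c hc).symm
    have el : κ (a * d) = l := (hzel d hd).symm
    have k3 : k ^ 3 = 1 := ek ▸ hκ3 _ hacP
    have l3 : l ^ 3 = 1 := el ▸ hκ3 _ hadP
    have hkl : Commute k l := (Subgroup.mem_center_iff.mp (el ▸ hu2 _ hadP) k)
    have em : κ (a * c * (a * d)) = k * l := by rw [hκmul _ hacP _ hadP, ek, el]
    have em2 : κ (a * c * (a * d) * (a * d)) = k * (l * l) := by
      rw [hκmul _ (mul_mem hacP hadP) _ hadP, em, el, mul_assoc]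
    have hm : k * l ≠ 1 := fun h => lki (eq_inv_of_mul_eq_one_right h)
    have hm2 : k * (l * l) ≠ 1 := by
      intro h
      apply lk
      have e : l * l * l = 1 := by simpa [pow_succ] using l3
      calc l = k * (l * l) * l := by rw [h, one_mul]
        _ = k * (l * l * l) := by rw [mul_assoc]
        _ = k := by rw [e, mul_one]
    have hfix : ∀ y ∈ P, κ y ≠ 1 → ∀ v : V, u • nrm (κ y) v = nrm (κ y) v := fun y hy hne v =>
      hval y hy hne _ (smul_nrm (hκ3 y hy) v)
    have hall : ∀ v : V, u • v = v := by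
      intro v
      have hcm : ∀ w : V, k • (l • w) = l • (k • w) := fun w => by rw [← mul_smul, hkl.eq, mul_smul]
      have e1 : v + k • (l • v) + k • (k • (l • (l • v))) = nrm (κ (a * c * (a * d))) v := by
        simp only [em, nrm, mul_smul]
        rw [← hcm (l • v)]
      have e2 : v + k • (l • (l • v)) + k • (k • (l • v)) = nrm (κ (a * c * (a * d) * (a * d))) v := by
        simp only [em2, nrm, mul_smul]
        congr 2
        have e : l • (l • (l • v)) = v := by
          rw [← mul_smul, ← mul_smul, show l * l * l = l ^ 3 by simp [pow_succ], l3, one_smul]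
        rw [← hcm (l • (l • v)), e, hcm v]
      rw [← five_sum M.add_self k l v, e1, e2]
      simp only [smul_add]
      have f1 : ∀ w : V, u • nrm k w = nrm k w := fun w => ek ▸ hfix _ hacP (ek.symm ▸ hk1) w
      have f2 : u • nrm l v = nrm l v := by
        have := hfix _ hadP (el.symm ▸ l1) v
        rwa [el] at this
      rw [f1, f1, f2, hfix _ (mul_mem hacP hadP) (em.symm ▸ hm) v,
        hfix _ (mul_mem (mul_mem hacP hadP) hadP) (em2.symm ▸ hm2) v]
    exact P₁.ab_eq_one_false M (faith u hall)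
  -- fibres
  have hfib : ∀ c' ∈ D, ∀ d ∈ D, zel a b c' = zel a b d → ∃ l ∈ L, d = a * (c' * l * c') * a := by
    intro c' hc' d hd heq
    set y := c' * d with hy
    have hyP : y ∈ P := hPD hc' hd
    have hy1 : κ y = 1 := by
      have h := hκmul _ (hPD ha hc') _ hyP
      rw [show a * c' * y = a * d by rw [hy]; simp [mul_assoc, mul_self_mul hset hc'], ← hzel d hd,
        ← hzel c' hc', ← heq] at h
      exact mul_eq_left.mp h.symm
    have hcy : Commute u y := by
      have := hy1
      simp only [hκ] at this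
      rw [mul_inv_eq_one, mul_inv_eq_iff_eq_mul] at this
      exact this
    set e := y * a * y⁻¹ with he
    have heD : e ∈ D := M.closed.conj y a ha
    refine ⟨e, ?_, ?_⟩
    · by_contra heL
      apply hzne e (hplane e heD heL)
      have hcy2 : Commute u (a * y * a) := by
        have hau : a * u⁻¹ * a = u := by
          rw [hu, mul_inv_rev, inv_eq hset hbD, hai]; simp [mul_assoc, haa]
        have := (Commute.conj_iff a).mpr hcy.inv_left
        rwa [hai, hau] at this
      have hae : a * e = a * y * a * y⁻¹ := by rw [he]; simp [mul_assoc]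
      rw [hzel e heD, hae]
      simp only [hκ]
      rw [(hcy2.mul_right hcy.inv_right).eq]
      group
    · have h1 : c' * e * c' = d * a * d := by
        rw [he, hy]
        simp [mul_assoc, inv_eq hset hd, inv_eq hset hc', mul_self_mul hset hc', M.sq hc']
      rw [h1]
      by_cases hda : Commute d a
      · rw [far d hd a ha hda]; simp [mul_assoc, haa, mul_self_mul hset ha]
      · rw [braid hset hd ha hda]; simp [mul_assoc, haa, mul_self_mul hset ha]
  -- at most nine members
  let Lf : Finset H := {a, b, a * b * a}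
  let cover : H → Finset H := fun c' => Lf.image fun l => a * (c' * l * c') * a
  have hcov : ∃ S : Finset H, S.card ≤ 9 ∧ D ⊆ (S : Set H) := by
    have hcard : ∀ c', (cover c').card ≤ 3 := fun c' => Finset.card_image_le.trans Finset.card_le_three
    let ca := if h : ∃ d ∈ D, zel a b d = k⁻¹ then h.choose else a
    refine ⟨cover a ∪ cover c ∪ cover ca, ?_, fun d hd => ?_⟩
    · have h1 := Finset.card_union_le (cover a ∪ cover c) (cover ca)
      have h2 := Finset.card_union_le (cover a) (cover c)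
      have := hcard a; have := hcard c; have := hcard ca
      omega
    have hmemc : ∀ c' ∈ D, zel a b c' = zel a b d → d ∈ cover c' := fun c' hc' h => by
      obtain ⟨l, hl, rfl⟩ := hfib c' hc' d hd h
      exact Finset.mem_image.mpr ⟨l, by simpa [Lf, hL] using hl, rfl⟩
    simp only [Finset.coe_union, Set.mem_union, Finset.mem_coe]
    rcases hthree d hd with h | h | h
    · exact Or.inl (Or.inl (hmemc a ha (by rw [hκL a (by simp [hL]), h])))
    · exact Or.inl (Or.inr (hmemc c hc h.symm))
    · right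
      have hex : ∃ d ∈ D, zel a b d = k⁻¹ := ⟨d, hd, h⟩
      have : ca = hex.choose := dif_pos hex
      rw [this]
      exact hmemc _ hex.choose_spec.1 (hex.choose_spec.2.trans h.symm)
  -- the plane is everything
  set φ := T54.toHom T with hφ
  have hinj : Function.Injective φ := T54.toHom_injective T hk1
  obtain ⟨S, hS, hDS⟩ := hcov
  let N : Finset H := Finset.univ.image fun p => φ (T54.nine p)
  have hN : (N : Set H) ⊆ D := by
    intro g hg
    simp only [N, Finset.coe_image, Finset.coe_univ, Set.image_univ, Set.mem_range] at hg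
    obtain ⟨p, rfl⟩ := hg
    obtain ⟨g, hg⟩ := T54.nine_conj p
    rw [← hg, map_mul, map_mul, map_inv, hφ, T54.toHom_ga]
    exact M.closed.conj _ _ ha
  have hNcard : N.card = 9 := by
    refine (Finset.card_image_of_injective _ (hinj.comp T54.nine_inj)).trans ?_
    rfl
  have hSN : N = S := Finset.eq_of_subset_of_card_le
    (Finset.coe_subset.mp (hN.trans hDS)) (by omega)
  refine ⟨MulEquiv.ofBijective φ ⟨hinj, ?_⟩⟩
  rw [← MonoidHom.range_eq_top]
  refine eq_top_of_conj_invariant hgen fun d hd => ?_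
  have := hDS hd
  rw [← hSN] at this
  simp only [N, Finset.coe_image, Finset.coe_univ, Set.image_univ, Set.mem_range] at this
  obtain ⟨p, rfl⟩ := this
  exact ⟨_, rfl⟩

end CfsgLib.TwoRadical
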