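import Cfsg.Agent.Lib.TwoRadical.Construct
import Cfsg.Agent.Lib.TwoRadical.Width
import Cfsg.Agent.Lib.TwoRadical.SUThree

/-!
# Width one modulo the 2-radical: the reduction to an elementary abelian radical, and complements
-/

set_option autoImplicit false
set_option linter.unusedSectionVars false
set_option linter.style.haveILetI false

namespace CfsgLib.TwoRadical

open Cfsg CfsgLib.ThreeTrans
open scoped commutatorElement

universe u

variable {G : Type u} [Group G] [Finite G]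

theorem commute_eq_of_normal_sylow {D : Set G} (hD : IsThreeTranspositionClass D)
    (h232 : ∃ P : Sylow 3 (G ⧸ pCore 2 G), (P : Subgroup (G ⧸ pCore 2 G)).Normal ∧
      ∃ k : ℕ, (P : Subgroup (G ⧸ pCore 2 G)).index = 2 ^ k)
    (h2 : ∃ a ∈ D, ∃ b ∈ D, a ≠ b) :
    ∀ x ∈ imgClass D, ∀ y ∈ imgClass D, Commute x y → x = y := by
  obtain ⟨P, hPn, k, hk⟩ := h232
  have : Fact (Nat.Prime 2) := ⟨Nat.prime_two⟩
  have : Fact (Nat.Prime 3) := ⟨Nat.prime_three⟩
  have hc := class_imgClass hD h2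
  set N : Subgroup (G ⧸ pCore 2 G) := (P : Subgroup (G ⧸ pCore 2 G)) with hN
  have hK : IsPGroup 2 ((G ⧸ pCore 2 G) ⧸ N) := IsPGroup.of_card (n := k) (by
    rw [← Subgroup.index_eq_card]; exact hk)
  intro x hx y hy hxy
  have hsame : (QuotientGroup.mk x : (G ⧸ pCore 2 G) ⧸ N) = QuotientGroup.mk y := by
    have hgen : Subgroup.zpowers (QuotientGroup.mk x : (G ⧸ pCore 2 G) ⧸ N) ⊔
        frattini ((G ⧸ pCore 2 G) ⧸ N) = ⊤ := by
      refine top_unique ?_
      rw [← Subgroup.map_top_of_surjective (QuotientGroup.mk' N) (QuotientGroup.mk'_surjective N),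
        ← hc.2.2, MonoidHom.map_closure, Subgroup.closure_le]
      rintro _ ⟨z, hz, rfl⟩
      obtain ⟨g, rfl⟩ := class_conj hc hx hz
      have hmem : ⁅QuotientGroup.mk' N g, QuotientGroup.mk' N x⁆ ∈ frattini ((G ⧸ pCore 2 G) ⧸ N) :=
        CfsgLib.PGroup.commutator_le_frattini hK
          (Subgroup.commutator_mem_commutator (Subgroup.mem_top _) (Subgroup.mem_top _))
      have e : QuotientGroup.mk' N (g * x * g⁻¹) = ⁅QuotientGroup.mk' N g, QuotientGroup.mk' N x⁆ *
          QuotientGroup.mk' N x := by simp [commutatorElement_def]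
      rw [e]
      exact mul_mem (Subgroup.mem_sup_right hmem) (Subgroup.mem_sup_left (Subgroup.mem_zpowers _))
    have htop := frattini_nongenerating hgen
    obtain ⟨g, rfl⟩ := class_conj hc hx hy
    obtain ⟨i, hi⟩ := Subgroup.mem_zpowers_iff.mp
      (htop ▸ Subgroup.mem_top (QuotientGroup.mk g) : (QuotientGroup.mk g : (G ⧸ pCore 2 G) ⧸ N) ∈
        Subgroup.zpowers (QuotientGroup.mk x : (G ⧸ pCore 2 G) ⧸ N))
    rw [QuotientGroup.mk_mul, QuotientGroup.mk_mul, QuotientGroup.mk_inv, ← hi,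
      ((Commute.refl (QuotientGroup.mk x : (G ⧸ pCore 2 G) ⧸ N)).zpow_left i).eq, mul_inv_cancel_right]
  have hmem : x * y ∈ N := by
    rw [← QuotientGroup.eq_one_iff, QuotientGroup.mk_mul, hsame, ← QuotientGroup.mk_mul, mul_self hc.1 hy,
      QuotientGroup.mk_one]
  have h2' : (x * y) ^ 2 = 1 := (sq_eq_one_iff hc.1 hx hy).mpr hxy
  exact (mul_eq_one_iff_eq' hc.1 hy).mp
    (eq_one_of_mem_pGroup Nat.prime_three Nat.prime_two (by norm_num) P.2 hmem h2')

/-- The structure of `G / O₂(G)` in the width one case. -/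
theorem quotient_width_one {D : Set G} (hD : IsThreeTranspositionClass D) (h2 : ∃ a ∈ D, ∃ b ∈ D, a ≠ b)
    (hC : Subgroup.centralizer (pCore 2 G : Set G) ≤ pCore 2 G)
    (far : ∀ x ∈ imgClass D, ∀ y ∈ imgClass D, Commute x y → x = y) :
    Nonempty ((G ⧸ pCore 2 G) ≃* Equiv.Perm (Fin 3)) ∨ Nonempty (T54 ≃* G ⧸ pCore 2 G) := by
  have : Fact (Nat.Prime 2) := ⟨Nat.prime_two⟩
  set Q := pCore 2 G with hQ
  have hQn : Q.Normal := pCore_normal 2 G
  have hQ2 : IsPGroup 2 Q := CfsgLib.PCore.pCore_isPGroup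
  set Φ := (frattini Q).map Q.subtype with hΦ
  have hΦn : Φ.Normal := ConjAct.normal_of_characteristic_of_normal
  have hΦQ : Φ ≤ Q := Subgroup.map_subtype_le _
  have hΦ2 : IsPGroup 2 Φ := hQ2.to_le hΦQ
  let f := QuotientGroup.mk' Φ
  have hfs : Function.Surjective f := QuotientGroup.mk'_surjective Φ
  have hcore : pCore 2 (G ⧸ Φ) = Q.map f := (CfsgLib.PCore.map_pCore_quotient hΦ2).symm
  have hD' : IsThreeTranspositionClass (f '' D) := by
    refine ⟨⟨?_, ?_⟩, ?_, ?_⟩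
    · rintro _ ⟨d, hd, rfl⟩
      refine orderOf_eq_prime (by rw [← map_pow, pow_two, mul_self hD.1 hd, map_one]) ?_
      show (QuotientGroup.mk d : G ⧸ Φ) ≠ 1
      rw [Ne, QuotientGroup.eq_one_iff]
      exact fun h => not_mem_pCore hD h2 d hd (hΦQ h)
    · rintro _ ⟨d, hd, rfl⟩ _ ⟨e, he, rfl⟩
      rw [← map_mul, ← map_pow, ← map_pow]
      rcases hD.1.2 d hd e he with h | h
      · exact Or.inl (by rw [h, map_one])
      · exact Or.inr (by rw [h, map_one])
    · obtain ⟨-, ⟨d, hd, -⟩, -⟩ := id hD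
      refine ⟨_, ⟨d, hd, rfl⟩, Set.ext fun x => ⟨?_, fun hx => ?_⟩⟩
      · rintro ⟨e, he, rfl⟩
        obtain ⟨g, rfl⟩ := class_conj hD hd he
        exact isConj_iff.2 ⟨f g, by simp⟩
      · obtain ⟨g, rfl⟩ := isConj_iff.1 (show IsConj _ x from hx)
        obtain ⟨g, rfl⟩ := hfs g
        exact ⟨g * d * g⁻¹, (conjClosed_of_class hD).conj g d hd, by simp⟩
    · rw [← MonoidHom.map_closure, hD.2.2, Subgroup.map_top_of_surjective _ hfs]
  have h2' : ∃ a ∈ f '' D, ∃ b ∈ f '' D, a ≠ b := by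
    obtain ⟨a, ha, b, hb, hab⟩ := exists_not_commute_class hD h2
    refine ⟨_, ⟨a, ha, rfl⟩, _, ⟨b, hb, rfl⟩, fun h => hab (commute_of_mk hD ha hb ?_)⟩
    have h1 : a⁻¹ * b ∈ Φ := QuotientGroup.eq.mp h
    rw [show (QuotientGroup.mk b : G ⧸ pCore 2 G) = QuotientGroup.mk a from
      (QuotientGroup.eq.mpr (hΦQ h1)).symm]
  have hmemΦ : ∀ {x : G} (hx : x ∈ Q), (⟨x, hx⟩ : Q) ∈ frattini Q → x ∈ Φ := fun hx h => ⟨_, h, rfl⟩
  have hV : IsElementaryAbelian 2 (pCore 2 (G ⧸ Φ)) := by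
    rw [hcore]
    refine ⟨⟨⟨?_⟩⟩, ?_⟩
    · rintro ⟨_, x, hx, rfl⟩ ⟨_, y, hy, rfl⟩
      refine Subtype.ext ?_
      show f x * f y = f y * f x
      rw [← commutatorElement_eq_one_iff_mul_comm, ← map_commutatorElement]
      exact (QuotientGroup.eq_one_iff _).mpr ⟨⁅(⟨x, hx⟩ : Q), ⟨y, hy⟩⁆,
        CfsgLib.PGroup.commutator_le_frattini hQ2
          (Subgroup.commutator_mem_commutator (Subgroup.mem_top _) (Subgroup.mem_top _)), rfl⟩
    · rintro _ ⟨x, hx, rfl⟩
      rw [← map_pow]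
      exact (QuotientGroup.eq_one_iff _).mpr ⟨(⟨x, hx⟩ : Q) ^ 2, CfsgLib.PGroup.pow_mem_frattini hQ2 _, rfl⟩
  have hC' : Subgroup.centralizer (pCore 2 (G ⧸ Φ) : Set (G ⧸ Φ)) ≤ pCore 2 (G ⧸ Φ) := by
    rw [hcore]
    set K := (Subgroup.centralizer ((Q.map f : Subgroup (G ⧸ Φ)) : Set (G ⧸ Φ))).comap f with hK
    have hKn : K.Normal := by
      have hn : (Q.map f).Normal := hQn.map f hfs
      exact Subgroup.Normal.comap inferInstance f
    have hKp : IsPGroup 2 K := by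
      rintro ⟨g, hg⟩
      obtain ⟨j, m, hm, hjm⟩ := Nat.exists_eq_two_pow_mul_odd (orderOf_pos g).ne'
      refine ⟨j, Subtype.ext ?_⟩
      show g ^ 2 ^ j = 1
      set a := g ^ 2 ^ j with ha
      have haK : a ∈ K := pow_mem hg _
      have hcop : (Nat.card (Subgroup.zpowers a)).Coprime (Nat.card (frattini Q)) := by
        obtain ⟨n, hn⟩ := IsPGroup.iff_card.mp (hQ2.to_subgroup (frattini Q))
        rw [hn, Nat.card_zpowers, ha, orderOf_pow' _ (by positivity), hjm,
          Nat.gcd_eq_right (dvd_mul_right _ _), Nat.mul_div_cancel_left _ (by positivity)]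
        exact Nat.Coprime.pow_right n (Nat.coprime_two_right.mpr hm)
      have hle := CfsgLib.Coprime.le_centralizer_of_trivial_on_frattini (Subgroup.zpowers a) Q
        (by rw [Subgroup.normalizer_eq_top]; exact le_top) hcop (by
          intro b hb q hq
          have hbK : b ∈ K := Subgroup.zpowers_le.mpr haK hb
          have h1 := Subgroup.mem_centralizer_iff.mp hbK (f q) ⟨q, hq, rfl⟩
          have h3 : f (b * q * b⁻¹ * q⁻¹) = 1 := by
            rw [map_mul, map_mul, map_mul, map_inv, map_inv, ← h1, mul_inv_cancel_right, mul_inv_cancel]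
          exact (QuotientGroup.eq_one_iff _).mp h3)
      have haQ : a ∈ Q := hC (hle (Subgroup.mem_zpowers a))
      obtain ⟨n, hn⟩ := IsPGroup.iff_orderOf.mp hQ2 ⟨a, haQ⟩
      rw [Subgroup.orderOf_mk, ha, orderOf_pow' _ (by positivity), hjm,
        Nat.gcd_eq_right (dvd_mul_right _ _), Nat.mul_div_cancel_left _ (by positivity)] at hn
      have hm1 : m = 1 := by
        rcases n with _ | n
        · simpa using hn
        · exfalso
          rw [hn, Nat.odd_iff, pow_succ, Nat.mul_mod_left] at hm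
          exact zero_ne_one hm
      rw [hm1, mul_one] at hjm
      rw [ha, ← hjm]; exact pow_orderOf_eq_one g
    intro x hx
    obtain ⟨g, rfl⟩ := hfs x
    exact Subgroup.mem_map_of_mem f (CfsgLib.PCore.le_pCore hKn hKp hx)
  obtain ⟨V, instV, instA, ι, -, -, -, hmod, faith⟩ := exists_module hV hC'
  letI := instV
  letI := instA
  let e : (G ⧸ Φ) ⧸ pCore 2 (G ⧸ Φ) ≃* G ⧸ Q :=
    (QuotientGroup.quotientMulEquivOfEq hcore).trans (QuotientGroup.quotientQuotientEquivQuotient Φ Q hΦQ)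
  have he : ∀ d : G, e (QuotientGroup.mk (f d)) = QuotientGroup.mk d := fun d => rfl
  have far' : ∀ x ∈ imgClass (f '' D), ∀ y ∈ imgClass (f '' D), Commute x y → x = y := by
    rintro _ ⟨_, ⟨d, hd, rfl⟩, rfl⟩ _ ⟨_, ⟨d', hd', rfl⟩, rfl⟩ hc
    refine e.injective ?_
    have h := hc.map e.toMonoidHom
    simp only [MulEquiv.coe_toMonoidHom, he] at h
    rw [he, he]
    exact far _ ⟨d, hd, rfl⟩ _ ⟨d', hd', rfl⟩ h
  rcases width_one (hmod _ hD' h2') (class_imgClass hD' h2').2.2 faith far'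
      (two_imgClass hD' (exists_not_commute_class hD' h2')) with hg | hg
  · obtain ⟨g⟩ := hg; exact Or.inl ⟨e.symm.trans g⟩
  · obtain ⟨g⟩ := hg; exact Or.inr ⟨g.trans e⟩

theorem t54_involutions : ∀ t : T54, t ≠ 1 → t * t = 1 → ∃ p, t = T54.nine p := by decide +kernel

theorem t54_words : ∀ x : T54, T54.toFun T54.ga T54.gb T54.gc x = x := by decide +kernel

theorem t54_not_commute : T54.ga * T54.gb ≠ T54.gb * T54.ga ∧ T54.ga * T54.gc ≠ T54.gc * T54.ga ∧
    T54.gb * T54.gc ≠ T54.gc * T54.gb ∧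
    T54.gb * (T54.ga * T54.gc * T54.ga) ≠ T54.ga * T54.gc * T54.ga * T54.gb := by decide +kernel

/-- With quotient of order 54 the radical has a complement. -/
theorem complement_of_quotient_t54 {D : Set G} (hD : IsThreeTranspositionClass D)
    (h2 : ∃ a ∈ D, ∃ b ∈ D, a ≠ b) (ψ : T54 ≃* G ⧸ pCore 2 G) :
    ∃ K : Subgroup G, (pCore 2 G).IsComplement' K := by
  have hc := class_imgClass hD h2
  have hlift : ∀ p, ∃ d ∈ D, QuotientGroup.mk d = ψ (T54.nine p) := by
    obtain ⟨-, ⟨x, hx, -⟩, -⟩ := id hc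
    obtain ⟨q, hq⟩ := t54_involutions (ψ.symm x) (fun h => ne_one hc.1 hx (by simpa using congrArg ψ h))
      (by rw [← map_mul, mul_self hc.1 hx, map_one])
    obtain ⟨g, hg⟩ := T54.nine_conj q
    have hxa : x = ψ g * ψ T54.ga * (ψ g)⁻¹ := by
      rw [← map_inv, ← map_mul, ← map_mul, hg, ← hq, MulEquiv.apply_symm_apply]
    intro p
    obtain ⟨g', hg'⟩ := T54.nine_conj p
    have hmem := mem_imgClass_conj hD (ψ g' * (ψ g)⁻¹) x hx
    have e1 : ψ g' * (ψ g)⁻¹ * x * (ψ g' * (ψ g)⁻¹)⁻¹ = ψ (T54.nine p) := by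
      rw [← hg', hxa]; simp [mul_assoc]
    rw [e1] at hmem
    exact hmem
  obtain ⟨a, ha, hae⟩ := hlift (0, 0)
  obtain ⟨b, hb, hbe⟩ := hlift (2, 0)
  obtain ⟨c, hcD, hce⟩ := hlift (0, 2)
  rw [show T54.nine (0, 0) = T54.ga from T54.nine_zero] at hae
  rw [show T54.nine (2, 0) = T54.gb from rfl] at hbe
  rw [show T54.nine (0, 2) = T54.gc from rfl] at hce
  obtain ⟨n1, n2, n3, n4⟩ := t54_not_commute
  have hs := hD.1
  have key : ∀ {x y : G} {s t : T54}, (QuotientGroup.mk x : G ⧸ pCore 2 G) = ψ s →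
      (QuotientGroup.mk y : G ⧸ pCore 2 G) = ψ t → s * t ≠ t * s → ¬ Commute x y := by
    intro x y s t hx hy hne h
    apply hne
    apply ψ.injective
    rw [map_mul, map_mul, ← hx, ← hy, ← QuotientGroup.mk_mul, h.eq, QuotientGroup.mk_mul]
  have haca : a * c * a ∈ D := conj_mem_left (conjClosed_of_class hD) ha hcD
  have T : Tri a b c := ⟨mul_self hs ha, mul_self hs hb, mul_self hs hcD,
    braid hs ha hb (key hae hbe n1), braid hs ha hcD (key hae hce n2), braid hs hb hcD (key hbe hce n3),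
    braid hs hb haca (key hbe (show (QuotientGroup.mk (a * c * a) : G ⧸ pCore 2 G) =
      ψ (T54.ga * T54.gc * T54.ga) by simp [hae, hce]) n4)⟩
  set φ := T54.toHom T with hφ
  have hgen : ∀ x, (QuotientGroup.mk (φ x) : G ⧸ pCore 2 G) = ψ x := by
    intro x
    have h := congrArg (fun y => (QuotientGroup.mk' (pCore 2 G)).comp φ y) (t54_words x)
    have h' := congrArg ψ (t54_words x)
    simp only [T54.toFun, zel, map_mul, map_pow] at h'
    show QuotientGroup.mk' (pCore 2 G) (T54.toFun a b c x) = ψ x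
    simp only [T54.toFun, zel, map_mul, map_pow, QuotientGroup.mk'_apply, hae, hbe, hce]
    exact h'
  refine ⟨φ.range, Subgroup.isComplement'_of_disjoint_and_mul_eq_univ ?_ ?_⟩
  · rw [Subgroup.disjoint_def]
    rintro _ hQ ⟨x, rfl⟩
    have h := hgen x
    rw [(QuotientGroup.eq_one_iff _).mpr hQ] at h
    have hx1 : x = 1 := ψ.injective (by rw [← h, map_one])
    rw [hx1, map_one]
  · refine Set.eq_univ_of_forall fun g => ?_
    obtain ⟨x, hx⟩ := ψ.surjective (QuotientGroup.mk g)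
    refine ⟨g * (φ x)⁻¹, ?_, φ x, ⟨x, rfl⟩, by simp⟩
    show g * (φ x)⁻¹ ∈ pCore 2 G
    rw [← QuotientGroup.eq_one_iff, QuotientGroup.mk_mul, QuotientGroup.mk_inv, hgen, hx, mul_inv_cancel]

end CfsgLib.TwoRadical
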