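import Cfsg.Agent.Lib.TwoRadical.Model
import Cfsg.Agent.Lib.ThreeTrans.Basic

/-!
# Elementary abelian 2-groups acted on by a 3-transposition group
-/

set_option autoImplicit false
set_option linter.unusedSectionVars false

namespace CfsgLib.TwoRadical

open CfsgLib.ThreeTrans

variable {H : Type*} [Group H] (V : Type*) [AddCommGroup V] [DistribMulAction H V]

/-- A 2-module on which `D` acts as the module of a 3-transposition group with that 2-radical. -/
structure IsMod (D : Set H) : Prop where
  closed : ConjClosed D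
  add_self : ∀ v : V, v + v = 0
  fix_of_prod : ∀ d ∈ D, ∀ e ∈ D, ¬ Commute d e → ∀ v : V, (d * e) • v = v → d • v = v
  fix_img : ∀ d ∈ D, ∀ e ∈ D, Commute d e → ∀ v : V, e • (v + d • v) = v + d • v

/-- The image of `1 + d`. -/
def img (d : H) : AddSubgroup V := (AddMonoidHom.id V + DistribSMul.toAddMonoidHom V d).range

variable {V}

theorem mem_img {d : H} {x : V} : x ∈ img V d ↔ ∃ v, v + d • v = x := Iff.rfl

theorem smul_mem_img {d : H} {x : V} (g : H) (hx : x ∈ img V d) : g • x ∈ img V (g * d * g⁻¹) := by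
  obtain ⟨v, rfl⟩ := mem_img.mp hx
  exact mem_img.mpr ⟨g • v, by rw [mul_smul, mul_smul, inv_smul_smul, smul_add]⟩

/-- The sum over the powers of an element of order three. -/
def nrm (g : H) (v : V) : V := v + g • v + g • (g • v)

theorem smul_nrm {g : H} (hg : g ^ 3 = 1) (v : V) : g • nrm g v = nrm g v := by
  have h : g • (g • (g • v)) = v := by
    rw [← mul_smul, ← mul_smul, show g * g * g = g ^ 3 by simp [pow_succ], hg, one_smul]
  simp only [nrm, smul_add, h]
  abel

theorem smul_nrm_comm {g k : H} (h : Commute g k) (v : V) : k • nrm g v = nrm g (k • v) := by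
  simp only [nrm, smul_add, ← mul_smul]
  rw [h.eq, ← mul_assoc, h.symm.eq, mul_assoc g k g, h.symm.eq, ← mul_assoc]

theorem nrm_add (g : H) (v w : V) : nrm g (v + w) = nrm g v + nrm g w := by
  simp only [nrm, smul_add]; abel

namespace IsMod

variable {D : Set H} (M : IsMod V D)
include M

theorem neg_eq (v : V) : -v = v := neg_eq_of_add_eq_zero_left (M.add_self v)

theorem eq_of_add {v w : V} (h : v + w = 0) : v = w := by
  rw [eq_neg_of_add_eq_zero_left h, M.neg_eq]

theorem nrm_fixed {g : H} {v : V} (h : g • v = v) : nrm g v = v := by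
  rw [nrm, h, h, M.add_self, zero_add]

theorem sq {d : H} (hd : d ∈ D) : d * d = 1 := mul_self M.closed.set hd

theorem smul_smul_self {d : H} (hd : d ∈ D) (v : V) : d • (d • v) = v := by
  rw [← mul_smul, M.sq hd, one_smul]

theorem smul_img {d : H} (hd : d ∈ D) {x : V} (hx : x ∈ img V d) : d • x = x := by
  obtain ⟨v, rfl⟩ := mem_img.mp hx
  rw [smul_add, M.smul_smul_self hd, add_comm]

theorem img_fix {d e : H} (hd : d ∈ D) (he : e ∈ D) (h : Commute d e) {x : V} (hx : x ∈ img V d) :
    e • x = x := by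
  obtain ⟨v, rfl⟩ := mem_img.mp hx
  exact M.fix_img d hd e he h v

theorem fix_both {d e : H} (hd : d ∈ D) (he : e ∈ D) (h : ¬ Commute d e) {v : V}
    (hv : (d * e) • v = v) : d • v = v ∧ e • v = v := by
  have h1 := M.fix_of_prod d hd e he h v hv
  refine ⟨h1, ?_⟩
  have h2 := congrArg (fun x => d • x) hv
  simp only [mul_smul, M.smul_smul_self hd] at h2
  rw [h2, h1]

theorem cube {d e : H} (hd : d ∈ D) (he : e ∈ D) (h : ¬ Commute d e) : (d * e) ^ 3 = 1 :=
  pow_three_of_not_commute M.closed.set hd he h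

theorem smul_nrm_left {d e : H} (hd : d ∈ D) (he : e ∈ D) (h : ¬ Commute d e) (v : V) :
    d • nrm (d * e) v = nrm (d * e) v :=
  M.fix_of_prod d hd e he h _ (smul_nrm (M.cube hd he h) v)

theorem nrm_smul_left {d e : H} (hd : d ∈ D) (he : e ∈ D) (h : ¬ Commute d e) (v : V) :
    nrm (d * e) (d • v) = nrm (d * e) v := by
  conv_rhs => rw [← M.smul_nrm_left hd he h v]
  have h2 : d * e * d = e * d * e := braid M.closed.set hd he h
  have e1 : (d * e) • (d • v) = e • ((d * e) • v) := by
    simp only [← mul_smul]; rw [h2, mul_assoc e d e]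
  have e2 : e • v = d • ((d * e) • v) := by rw [mul_smul, M.smul_smul_self hd]
  have e3 : (d * e) • ((d * e) • (d • v)) = d • ((d * e) • v) := by
    rw [e1, mul_smul d e (e • _), M.smul_smul_self he]
  have e4 : d • ((d * e) • ((d * e) • v)) = (d * e) • (d • v) := by
    rw [e1, mul_smul d e ((d * e) • v), M.smul_smul_self hd]
  simp only [nrm, smul_add]
  rw [e3, e4]
  abel

theorem nrm_img {d e : H} (hd : d ∈ D) (he : e ∈ D) (h : ¬ Commute d e) {x : V}
    (hx : x ∈ img V d) : nrm (d * e) x = 0 := by
  obtain ⟨v, rfl⟩ := mem_img.mp hx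
  rw [nrm_add, M.nrm_smul_left hd he h, M.add_self]

theorem fix_zero {d e : H} (hd : d ∈ D) (he : e ∈ D) (h : ¬ Commute d e) {x : V}
    (hx : x ∈ img V d) (hex : e • x = x) : x = 0 := by
  rw [← M.nrm_img hd he h hx, M.nrm_fixed]
  rw [mul_smul, hex, M.smul_img hd hx]

theorem add_nrm_mem {d e : H} (hd : d ∈ D) (he : e ∈ D) (hc : ¬ Commute d e) {x : V} (hx : d • x = x) :
    x + nrm (d * e) x ∈ img V d := by
  refine mem_img.mpr ⟨e • x, ?_⟩
  have hb : (d * e) • ((d * e) • x) = e • x := by
    have h2 : d * e * d = e * d * e := braid M.closed.set hd he hc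
    calc (d * e) • ((d * e) • x) = (d * e * d) • (e • x) := by simp only [← mul_smul, mul_assoc]
      _ = e • x := by rw [h2, mul_smul, mul_smul, M.smul_smul_self he, hx]
  rw [nrm, ← add_assoc, ← add_assoc, M.add_self, zero_add, hb, mul_smul]
  abel

/-- A braid triple from three members. -/
theorem tri {a b c : H} (ha : a ∈ D) (hb : b ∈ D) (hc : c ∈ D) (hab : ¬ Commute a b)
    (hac : ¬ Commute a c) (hbc : ¬ Commute b c) (h : ¬ Commute b (a * c * a)) : Tri a b c :=
  ⟨M.sq ha, M.sq hb, M.sq hc, braid M.closed.set ha hb hab, braid M.closed.set ha hc hac,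
    braid M.closed.set hb hc hbc, braid M.closed.set hb (conj_mem_left M.closed ha hc) h⟩

end IsMod

/-- The identity behind coprime generation by a non-cyclic group of order nine. -/
theorem five_sum (h2 : ∀ v : V, v + v = 0) (f g : H) (v : V) :
    nrm f v + nrm g v + (v + f • (g • v) + f • (f • (g • (g • v)))) +
      (v + f • (g • (g • v)) + f • (f • (g • v))) + nrm f (nrm g v) = v := by
  have e : nrm f v + nrm g v + (v + f • (g • v) + f • (f • (g • (g • v)))) +
      (v + f • (g • (g • v)) + f • (f • (g • v))) + nrm f (nrm g v) =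
      v + ((v + v) + (v + v) + (f • v + f • v) + (f • (f • v) + f • (f • v)) + (g • v + g • v) +
        (g • (g • v) + g • (g • v)) + (f • (g • v) + f • (g • v)) + (f • (g • (g • v)) + f • (g • (g • v))) +
        (f • (f • (g • v)) + f • (f • (g • v))) + (f • (f • (g • (g • v))) + f • (f • (g • (g • v))))) := by
    simp only [nrm, smul_add]
    abel
  rw [e]
  simp only [h2, add_zero]

end CfsgLib.TwoRadical
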