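import Mathlib

/-!
# Three pairwise braiding involutions: the commutator of the two products is central
-/

set_option autoImplicit false

namespace CfsgLib.TwoRadical

variable {G : Type*} [Group G]

/-- The image of `y` under the involution `x`. -/
def refl (x y : G) : G := x * y * x

/-- Two involutions with equal images of each other. -/
def Braid (x y : G) : Prop := refl x y = refl y x

theorem refl_self {x : G} (hx : x * x = 1) : refl x x = x := by
  rw [refl, hx, one_mul]

theorem refl_refl {x : G} (hx : x * x = 1) (y : G) : refl x (refl x y) = y := by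
  simp only [refl, ← mul_assoc, hx, one_mul]
  rw [mul_assoc, hx, mul_one]

theorem refl_distrib {a : G} (ha : a * a = 1) (c y : G) :
    refl a (refl c y) = refl (refl a c) (refl a y) := by
  have h : ∀ t : G, a * (a * t) = t := fun t => by rw [← mul_assoc, ha, one_mul]
  simp only [refl, mul_assoc, h]

/-- The commutator of `a * b` and `a * c`. -/
def zel (a b c : G) : G := a * b * (a * c) * (b * a) * (c * a)

theorem zel_conj {a b c : G} (ha : a * a = 1) (hb : b * b = 1) (hc : c * c = 1) (x : G) :
    zel a b c * x * (zel a b c)⁻¹ =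
      refl a (refl b (refl a (refl c (refl b (refl a (refl c (refl a x))))))) := by
  have ha' : a⁻¹ = a := inv_eq_of_mul_eq_one_right ha
  have hb' : b⁻¹ = b := inv_eq_of_mul_eq_one_right hb
  have hc' : c⁻¹ = c := inv_eq_of_mul_eq_one_right hc
  simp only [zel, refl, mul_inv_rev, ha', hb', hc', mul_assoc]

/-- The braid conditions on a triple. -/
structure Tri (a b c : G) : Prop where
  sqa : a * a = 1
  sqb : b * b = 1
  sqc : c * c = 1
  ab : Braid a b
  ac : Braid a c
  bc : Braid b c
  bac : Braid b (refl a c)

namespace Tri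

variable {a b c : G} (h : Tri a b c)
include h

theorem commute_a : Commute (zel a b c) a := by
  rw [commute_iff_eq, ← mul_inv_eq_iff_eq_mul, zel_conj h.sqa h.sqb h.sqc, refl_self h.sqa,
    ← show refl a c = refl c a from h.ac, refl_refl h.sqa, show refl b c = refl c b from h.bc,
    refl_refl h.sqc, show refl a b = refl b a from h.ab, refl_refl h.sqb, refl_self h.sqa]

theorem refl_p : refl b (refl a (refl c (refl a b))) = refl a c := by
  rw [refl_distrib h.sqa c, refl_refl h.sqa, ← show refl b (refl a c) = refl (refl a c) b from h.bac,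
    refl_refl h.sqb]

theorem commute_b : Commute (zel a b c) b := by
  rw [commute_iff_eq, ← mul_inv_eq_iff_eq_mul, zel_conj h.sqa h.sqb h.sqc, h.refl_p,
    show refl a c = refl c a from h.ac, refl_refl h.sqc, refl_self h.sqa,
    ← show refl a b = refl b a from h.ab, refl_refl h.sqa]

theorem commute_c : Commute (zel a b c) c := by
  have e1 : refl c (refl a c) = a := by rw [show refl a c = refl c a from h.ac, refl_refl h.sqc]
  rw [commute_iff_eq, ← mul_inv_eq_iff_eq_mul, zel_conj h.sqa h.sqb h.sqc, e1, refl_self h.sqa,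
    ← show refl a b = refl b a from h.ab, h.refl_p, refl_refl h.sqa]

theorem inv_ab : (a * b)⁻¹ = b * a := by
  rw [mul_inv_rev, inv_eq_of_mul_eq_one_right h.sqa, inv_eq_of_mul_eq_one_right h.sqb]

theorem inv_ac : (a * c)⁻¹ = c * a := by
  rw [mul_inv_rev, inv_eq_of_mul_eq_one_right h.sqa, inv_eq_of_mul_eq_one_right h.sqc]

omit h in
theorem cube_of_braid {x y : G} (hx : x * x = 1) (hy : y * y = 1) (hxy : Braid x y) : (x * y) ^ 3 = 1 := by
  calc (x * y) ^ 3 = (x * y * x) * (y * x * y) := by simp [pow_succ, mul_assoc]
    _ = (y * x * y) * (y * x * y) := by rw [show x * y * x = y * x * y from hxy]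
    _ = y * (x * (y * y) * x) * y := by simp [mul_assoc]
    _ = 1 := by rw [hy, mul_one, hx, mul_one, hy]

theorem cube_ab : (a * b) ^ 3 = 1 := cube_of_braid h.sqa h.sqb h.ab

theorem cube_ac : (a * c) ^ 3 = 1 := cube_of_braid h.sqa h.sqc h.ac

theorem commute_ab : Commute (zel a b c) (a * b) := h.commute_a.mul_right h.commute_b

theorem commute_ac : Commute (zel a b c) (a * c) := h.commute_a.mul_right h.commute_c

theorem comm_rel : a * b * (a * c) = zel a b c * (a * c * (a * b)) := by
  rw [zel, ← h.inv_ab, ← h.inv_ac]
  group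

theorem zel_cube : zel a b c ^ 3 = 1 := by
  have e : a * b * (a * c) * (a * b)⁻¹ = zel a b c * (a * c) := by
    rw [h.comm_rel]; simp only [mul_assoc, mul_inv_cancel, mul_one]
  have h1 : (a * b * (a * c) * (a * b)⁻¹) ^ 3 = 1 := by rw [conj_pow, h.cube_ac, mul_one, mul_inv_cancel]
  rw [e, h.commute_ac.mul_pow, h.cube_ac, mul_one] at h1
  exact h1

end Tri

end CfsgLib.TwoRadical
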