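import Cfsg.Agent.Lib.TwoRadical.Module
import Cfsg.Agent.Lib.ThreeTrans.Cores
import Cfsg.Agent.Lib.Components.FStar
import Cfsg.Agent.Lib.PGroup.Frattini
import Cfsg.Agent.Lib.Coprime.Commutator
import Cfsg.Prelude.Def_Local
import Cfsg.Prelude.Def_Transfer

/-!
# The module of a 3-transposition group on an elementary abelian 2-radical
-/

set_option autoImplicit false
set_option linter.unusedSectionVars false
set_option linter.style.haveILetI false

namespace CfsgLib.TwoRadical

open Cfsg CfsgLib.ThreeTrans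
open scoped commutatorElement

universe u

variable {G : Type u} [Group G] [Finite G] {D : Set G}

/-- The images of `D` modulo the 2-core. -/
def imgClass (D : Set G) : Set (G ⧸ pCore 2 G) := QuotientGroup.mk '' D

theorem not_mem_pCore (hD : IsThreeTranspositionClass D) (h2 : ∃ a ∈ D, ∃ b ∈ D, a ≠ b) :
    ∀ d ∈ D, d ∉ pCore 2 G := by
  have : Fact (Nat.Prime 2) := ⟨Nat.prime_two⟩
  intro d hd hdQ
  have hle : pCore 2 G = ⊤ := top_unique (hD.2.2 ▸ (Subgroup.closure_le _).2 fun x hx => by
    obtain ⟨g, rfl⟩ := class_conj hD hd hx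
    exact (pCore_normal 2 G).conj_mem d hdQ g)
  have hG : IsPGroup 2 G := by
    have h := CfsgLib.PCore.pCore_isPGroup (G := G) (p := 2)
    rw [hle] at h
    exact h.of_equiv Subgroup.topEquiv
  have hn : (frattini G).Normal := inferInstance
  have hgen : Subgroup.zpowers d ⊔ frattini G = ⊤ := top_unique (hD.2.2 ▸ (Subgroup.closure_le _).2 fun x hx => by
    obtain ⟨g, rfl⟩ := class_conj hD hd hx
    have hc : ⁅g, d⁆ ∈ frattini G := CfsgLib.PGroup.commutator_le_frattini hG
      (Subgroup.commutator_mem_commutator (Subgroup.mem_top g) (Subgroup.mem_top d))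
    have e : g * d * g⁻¹ = ⁅g, d⁆ * d := by simp [commutatorElement_def]
    rw [e]
    exact mul_mem (Subgroup.mem_sup_right hc) (Subgroup.mem_sup_left (Subgroup.mem_zpowers d)))
  have htop := frattini_nongenerating hgen
  obtain ⟨a, ha, b, hb, hab⟩ := h2
  obtain ⟨g, rfl⟩ := class_conj hD ha hb
  apply hab
  obtain ⟨i, hi⟩ := Subgroup.mem_zpowers_iff.mp (htop ▸ Subgroup.mem_top g : g ∈ Subgroup.zpowers d)
  obtain ⟨j, hj⟩ := Subgroup.mem_zpowers_iff.mp (htop ▸ Subgroup.mem_top a : a ∈ Subgroup.zpowers d)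
  rw [← hi, ← hj, ← zpow_add, ← zpow_neg, ← zpow_add]
  congr 1; ring

theorem commute_of_mk (hD : IsThreeTranspositionClass D) {d e : G} (hd : d ∈ D) (he : e ∈ D)
    (h : Commute (QuotientGroup.mk d : G ⧸ pCore 2 G) (QuotientGroup.mk e)) : Commute d e := by
  by_contra hne
  have hs := hD.1
  have h3 := pow_three_of_not_commute hs hd he hne
  have h2 : (QuotientGroup.mk (d * e) : G ⧸ pCore 2 G) ^ 2 = 1 := by
    rw [QuotientGroup.mk_mul, h.mul_pow, pow_two, pow_two, ← QuotientGroup.mk_mul, ← QuotientGroup.mk_mul,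
      mul_self hs hd, mul_self hs he, QuotientGroup.mk_one, one_mul]
  have h3' : (QuotientGroup.mk (d * e) : G ⧸ pCore 2 G) ^ 3 = 1 := by
    rw [← QuotientGroup.mk_pow, h3, QuotientGroup.mk_one]
  rw [pow_succ, h2, one_mul, QuotientGroup.eq_one_iff] at h3'
  have := eq_one_of_mem_pGroup Nat.prime_two Nat.prime_three (by norm_num)
    (CfsgLib.PCore.pCore_isPGroup (G := G) (p := 2)) h3' h3
  rw [mul_eq_one_iff_eq' hs he] at this
  exact hne (this ▸ Commute.refl d)

theorem mem_imgClass_conj (hD : IsThreeTranspositionClass D) :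
    ∀ g : G ⧸ pCore 2 G, ∀ d ∈ imgClass D, g * d * g⁻¹ ∈ imgClass D := by
  rintro g _ ⟨d, hd, rfl⟩
  obtain ⟨g, rfl⟩ := QuotientGroup.mk_surjective g
  exact ⟨g * d * g⁻¹, (conjClosed_of_class hD).conj g d hd, by simp⟩

theorem class_imgClass (hD : IsThreeTranspositionClass D) (h2 : ∃ a ∈ D, ∃ b ∈ D, a ≠ b) :
    IsThreeTranspositionClass (imgClass D) := by
  refine ⟨⟨?_, ?_⟩, ?_, ?_⟩
  · rintro _ ⟨d, hd, rfl⟩
    have : Fact (Nat.Prime 2) := ⟨Nat.prime_two⟩
    refine orderOf_eq_prime (by rw [← QuotientGroup.mk_pow, pow_two, mul_self hD.1 hd, QuotientGroup.mk_one]) ?_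
    rw [Ne, QuotientGroup.eq_one_iff]
    exact not_mem_pCore hD h2 d hd
  · rintro _ ⟨d, hd, rfl⟩ _ ⟨e, he, rfl⟩
    rw [← QuotientGroup.mk_mul, ← QuotientGroup.mk_pow, ← QuotientGroup.mk_pow]
    rcases hD.1.2 d hd e he with h | h
    · exact Or.inl (by rw [h, QuotientGroup.mk_one])
    · exact Or.inr (by rw [h, QuotientGroup.mk_one])
  · obtain ⟨-, ⟨d, hd, hDd⟩, -⟩ := id hD
    refine ⟨_, ⟨d, hd, rfl⟩, Set.ext fun x => ⟨?_, fun hx => ?_⟩⟩
    · rintro ⟨e, he, rfl⟩
      obtain ⟨g, rfl⟩ := class_conj hD hd he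
      exact isConj_iff.2 ⟨QuotientGroup.mk g, by simp⟩
    · obtain ⟨g, rfl⟩ := isConj_iff.1 (show IsConj _ x from hx)
      exact mem_imgClass_conj hD g _ ⟨d, hd, rfl⟩
  · show Subgroup.closure ((QuotientGroup.mk' (pCore 2 G)) '' D) = ⊤
    rw [← MonoidHom.map_closure, hD.2.2, Subgroup.map_top_of_surjective _ (QuotientGroup.mk'_surjective _)]

theorem two_imgClass (hD : IsThreeTranspositionClass D) (hne : ∃ d ∈ D, ∃ e ∈ D, ¬ Commute d e) :
    ∃ a ∈ imgClass D, ∃ b ∈ imgClass D, a ≠ b := by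
  obtain ⟨d, hd, e, he, hde⟩ := hne
  exact ⟨_, ⟨d, hd, rfl⟩, _, ⟨e, he, rfl⟩, fun h => hde (commute_of_mk hD hd he (h ▸ Commute.refl _))⟩

theorem exists_not_commute_class (hD : IsThreeTranspositionClass D) (h2 : ∃ a ∈ D, ∃ b ∈ D, a ≠ b) :
    ∃ d ∈ D, ∃ e ∈ D, ¬ Commute d e := by
  by_contra h
  push Not at h
  obtain ⟨a, ha, b, hb, hab⟩ := h2
  obtain ⟨g, rfl⟩ := class_conj hD ha hb
  have hc := mem_center_of_commute hD.2.2 (fun d hd => h a ha d hd)
  exact hab (by rw [Subgroup.mem_center_iff.mp hc g, mul_inv_cancel_right])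

theorem twins_imgClass (hD : IsThreeTranspositionClass D) (h2 : ∃ a ∈ D, ∃ b ∈ D, a ≠ b)
    {a b : G ⧸ pCore 2 G} (h : VRel (imgClass D) a b) : a = b := by
  have : Fact (Nat.Prime 2) := ⟨Nat.prime_two⟩
  have h' := VRel.mul_mem_pCore (conjClosed_of_class (class_imgClass hD h2)) h
  rw [CfsgLib.PCore.pCore_quotient_pCore, Subgroup.mem_bot] at h'
  exact (mul_eq_one_iff_eq' (class_imgClass hD h2).1 h.2.1).mp h'

/-- The quotient by the 2-core acting on an elementary abelian 2-core. -/
theorem exists_module (hV : IsElementaryAbelian 2 (pCore 2 G))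
    (hC : Subgroup.centralizer (pCore 2 G : Set G) ≤ pCore 2 G) :
    ∃ (V : Type u) (_ : AddCommGroup V) (_ : DistribMulAction (G ⧸ pCore 2 G) V) (ι : pCore 2 G → V),
      Function.Bijective ι ∧ (∀ x y, ι (x * y) = ι x + ι y) ∧
      (∀ (g : G) (x : pCore 2 G), (QuotientGroup.mk g : G ⧸ pCore 2 G) • ι x =
        ι ⟨g * x * g⁻¹, (pCore_normal 2 G).conj_mem x x.2 g⟩) ∧
      (∀ D : Set G, IsThreeTranspositionClass D → (∃ a ∈ D, ∃ b ∈ D, a ≠ b) → IsMod V (imgClass D)) ∧
      (∀ h : G ⧸ pCore 2 G, (∀ v : V, h • v = v) → h = 1) := by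
  have hQn : (pCore 2 G).Normal := pCore_normal 2 G
  letI : CommGroup (pCore 2 G) := { (inferInstance : Group (pCore 2 G)) with mul_comm := fun a b => hV.1.is_comm.comm a b }
  let act : G →* MulAut (pCore 2 G) := MulAut.conjNormal
  have hker : pCore 2 G ≤ act.ker := by
    intro q hq
    rw [MonoidHom.mem_ker]
    ext x
    rw [MulAut.conjNormal_apply, MulAut.one_apply]
    have h : q * (x : G) = (x : G) * q := congrArg Subtype.val (hV.1.is_comm.comm ⟨q, hq⟩ x)
    rw [h, mul_inv_cancel_right]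
  let actH : G ⧸ pCore 2 G →* MulAut (pCore 2 G) := QuotientGroup.lift _ act hker
  letI : DistribMulAction (G ⧸ pCore 2 G) (Additive (pCore 2 G)) :=
    { smul := fun h v => Additive.ofMul (actH h v.toMul)
      one_smul := fun v => by
        show Additive.ofMul (actH 1 v.toMul) = v
        rw [map_one]; rfl
      mul_smul := fun g h v => by
        show Additive.ofMul (actH (g * h) v.toMul) = Additive.ofMul (actH g (actH h v.toMul))
        rw [map_mul]; rfl
      smul_zero := fun h => by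
        show Additive.ofMul (actH h 1) = 0
        rw [map_one]; rfl
      smul_add := fun h v w => by
        show Additive.ofMul (actH h (v.toMul * w.toMul)) = _
        rw [map_mul]; rfl }
  have hsmul : ∀ (g : G) (x : pCore 2 G), (QuotientGroup.mk g : G ⧸ pCore 2 G) • Additive.ofMul x =
      Additive.ofMul ⟨g * x * g⁻¹, hQn.conj_mem x x.2 g⟩ := fun g x => by
    show Additive.ofMul (act g x) = _
    congr 1
  have hQ2 : IsPGroup 2 (pCore 2 G) := CfsgLib.PCore.pCore_isPGroup
  refine ⟨Additive (pCore 2 G), inferInstance, inferInstance, Additive.ofMul, Additive.ofMul.bijective,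
    fun _ _ => rfl, hsmul, fun D hD h2 => ⟨conjClosed_of_class (class_imgClass hD h2), ?_, ?_, ?_⟩, ?_⟩
  · intro v
    refine Additive.toMul.injective (Subtype.ext ?_)
    show ((v.toMul : pCore 2 G) : G) * (v.toMul : pCore 2 G) = 1
    have := hV.2 _ v.toMul.2
    rwa [pow_two] at this
  · rintro _ ⟨d, hd, rfl⟩ _ ⟨e, he, rfl⟩ hne v hv
    have hs := hD.1
    obtain ⟨x, rfl⟩ := Additive.ofMul.surjective v
    rw [← QuotientGroup.mk_mul, hsmul] at hv
    rw [hsmul]
    refine congrArg Additive.ofMul (Subtype.ext ?_)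
    have hvt : d * e * x * (d * e)⁻¹ = x := congrArg Subtype.val (Additive.ofMul.injective hv)
    show d * x * d⁻¹ = x
    have hxinv : (x : G)⁻¹ = x := inv_eq_of_mul_eq_one_right (by rw [← pow_two]; exact hV.2 _ x.2)
    set d' := (x : G) * d * (x : G)⁻¹ with hd'
    have hd'D : d' ∈ D := (conjClosed_of_class hD).conj _ d hd
    have hnc : ¬ Commute e d' := by
      intro hc
      apply hne
      have h1 := hc.map (QuotientGroup.mk' (pCore 2 G))
      have e1 : QuotientGroup.mk' (pCore 2 G) d' = QuotientGroup.mk' (pCore 2 G) d := by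
        have hx1 : QuotientGroup.mk' (pCore 2 G) (x : G) = 1 := (QuotientGroup.eq_one_iff _).mpr x.2
        simp [hd', hx1]
      rw [e1] at h1
      exact h1.symm
    have h3 := pow_three_of_not_commute hs he hd'D hnc
    set y := (x : G) * d * (x : G)⁻¹ * d with hy
    have hyQ : y ∈ pCore 2 G := by
      rw [hy, mul_assoc (x : G), mul_assoc (x : G), ← inv_eq hs hd]
      exact mul_mem x.2 (by
        have := hQn.conj_mem _ (inv_mem x.2) d
        simpa [inv_eq hs hd] using this)
    set t := e * d with ht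
    have hxt : Commute t (x : G) := by
      have h1 : Commute (d * e) (x : G) := mul_inv_eq_iff_eq_mul.mp hvt
      have h2 := h1.inv_left
      rwa [mul_inv_rev, inv_eq hs hd, inv_eq hs he] at h2
    have hyt : Commute t (e * y * e) := by
      have hdxd : Commute t (d * (x : G) * d) := by
        have h1 : Commute (d * t⁻¹ * d) (d * (x : G) * d) := by
          have h2 := (Commute.conj_iff d).mpr hxt.inv_left
          rwa [inv_eq hs hd] at h2
        have e1 : d * t⁻¹ * d = t := by
          rw [ht, mul_inv_rev, inv_eq hs hd, inv_eq hs he]; simp [mul_assoc, mul_self_mul hs hd, mul_self hs hd]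
        rwa [e1] at h1
      have hyc : Commute t y := by
        have : y = (x : G) * (d * (x : G)⁻¹ * d) := by rw [hy]; simp [mul_assoc]
        rw [this]
        refine hxt.mul_right ?_
        rw [hxinv]
        exact hdxd
      have h1 := (Commute.conj_iff e).mpr hyc.inv_left
      rw [inv_eq hs he, show e * t⁻¹ * e = e * d from by
        rw [ht, mul_inv_rev, inv_eq hs hd, inv_eq hs he]; simp [mul_assoc, mul_self hs he]] at h1
      exact h1
    have hey : e * d' = e * y * e * t := by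
      rw [ht, hy, hd']; simp [mul_assoc, mul_self_mul hs he, mul_self hs hd]
    have ht3 : t ^ 3 = 1 := pow_three_of_not_commute hs he hd (fun h => hne (h.symm.map (QuotientGroup.mk' _)))
    rw [hey, hyt.symm.mul_pow, ht3, mul_one] at h3
    have hy1 : e * y * e = 1 := eq_one_of_mem_pGroup Nat.prime_two Nat.prime_three (by norm_num) hQ2
      (by have := hQn.conj_mem y hyQ e; rwa [inv_eq hs he] at this) h3
    have hy2 : y = 1 := by
      have := congrArg (fun q => e * q * e) hy1
      simpa [mul_assoc, mul_self_mul hs he, mul_self hs he] using this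
    rw [hy, mul_eq_one_iff_eq_inv, mul_inv_eq_iff_eq_mul] at hy2
    calc d * x * d⁻¹ = d⁻¹ * (x : G) * d⁻¹ := by rw [inv_eq hs hd]
      _ = d⁻¹ * ((x : G) * d) := by rw [inv_eq hs hd, mul_assoc]
      _ = x := by rw [hy2, inv_eq hs hd, mul_self_mul hs hd]
  · rintro _ ⟨d, hd, rfl⟩ _ ⟨e, he, rfl⟩ hc v
    have hs := hD.1
    obtain ⟨x, rfl⟩ := Additive.ofMul.surjective v
    rw [hsmul, ← ofMul_mul, hsmul]
    refine congrArg Additive.ofMul (Subtype.ext ?_)
    show e * ((x : G) * (d * x * d⁻¹)) * e⁻¹ = x * (d * x * d⁻¹)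
    have hde := commute_of_mk hD hd he hc
    have hxinv : (x : G)⁻¹ = x := inv_eq_of_mul_eq_one_right (by rw [← pow_two]; exact hV.2 _ x.2)
    have hde' : Commute e ((x : G) * d * (x : G)⁻¹) := by
      refine commute_of_mk hD he ((conjClosed_of_class hD).conj _ d hd) ?_
      have hx1 : (QuotientGroup.mk (x : G) : G ⧸ pCore 2 G) = 1 := (QuotientGroup.eq_one_iff _).mpr x.2
      simpa [hx1] using hc.symm
    have hy : Commute e ((x : G) * (d * x * d⁻¹)) := by
      have := hde'.mul_right hde.symm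
      rw [inv_eq hs hd]
      rw [hxinv] at this
      simpa [mul_assoc] using this
    rw [hy.eq, mul_inv_cancel_right]
  · intro h hh
    obtain ⟨g, rfl⟩ := QuotientGroup.mk_surjective h
    rw [QuotientGroup.eq_one_iff]
    refine hC (Subgroup.mem_centralizer_iff.2 fun q hq => ?_)
    have := hh (Additive.ofMul ⟨q, hq⟩)
    rw [hsmul] at this
    have h1 : g * q * g⁻¹ = q := congrArg Subtype.val (Additive.ofMul.injective this)
    exact (mul_inv_eq_iff_eq_mul.mp h1).symm

end CfsgLib.TwoRadical
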