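import Cfsg.Agent.Lib.TwoRadical.Identities

/-!
# The group of order 54: three generators acting on nine points
-/

set_option autoImplicit false

namespace CfsgLib.TwoRadical

/-- `u^i s^j z^k a^e`. -/
@[ext]
structure T54 where
  i : ZMod 3
  j : ZMod 3
  k : ZMod 3
  e : ZMod 2
deriving DecidableEq, Fintype

namespace T54

/-- The sign of `a^e`. -/
def sg (e : ZMod 2) : ZMod 3 := if e = 0 then 1 else -1

theorem sg_add : ∀ e f : ZMod 2, sg (e + f) = sg e * sg f := by decide

theorem sg_sq : ∀ e : ZMod 2, sg e * sg e = 1 := by decide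

instance : Mul T54 where
  mul x y := ⟨x.i + sg x.e * y.i, x.j + sg x.e * y.j, x.k + y.k - x.j * (sg x.e * y.i), x.e + y.e⟩

instance : One T54 where one := ⟨0, 0, 0, 0⟩

instance : Inv T54 where
  inv x := ⟨-(sg x.e * x.i), -(sg x.e * x.j), -x.k - x.i * x.j, x.e⟩

theorem mul_def (x y : T54) :
    x * y = ⟨x.i + sg x.e * y.i, x.j + sg x.e * y.j, x.k + y.k - x.j * (sg x.e * y.i), x.e + y.e⟩ := rfl

theorem one_def : (1 : T54) = ⟨0, 0, 0, 0⟩ := rfl

theorem inv_def (x : T54) :
    x⁻¹ = ⟨-(sg x.e * x.i), -(sg x.e * x.j), -x.k - x.i * x.j, x.e⟩ := rfl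

instance : Group T54 where
  mul_assoc x y z := by
    simp only [mul_def, sg_add]
    ext
    · ring
    · ring
    · show _ = _
      have h := sg_sq x.e
      linear_combination (-(y.j * sg y.e * z.i)) * h
    · ring
  one_mul x := by simp [mul_def, one_def, sg]
  mul_one x := by simp [mul_def, one_def]
  inv_mul_cancel := by decide +kernel

theorem card : Nat.card T54 = 54 := by rw [Nat.card_eq_fintype_card]; decide +kernel

/-- The first involution. -/
def ga : T54 := ⟨0, 0, 0, 1⟩
/-- The second involution. -/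
def gb : T54 := ⟨2, 0, 0, 1⟩
/-- The third involution. -/
def gc : T54 := ⟨0, 2, 0, 1⟩

/-- Nine involutions in one class. -/
def nine (p : ZMod 3 × ZMod 3) : T54 := ⟨p.1, p.2, p.1 * p.2, 1⟩

theorem nine_inj : Function.Injective nine := by decide +kernel

theorem nine_conj : ∀ p, ∃ g : T54, g * ga * g⁻¹ = nine p := by decide +kernel

theorem nine_zero : nine (0, 0) = ga := by decide +kernel

/-- A normal subgroup not containing the central element is trivial. -/
theorem reach_center : ∀ t : T54, t ≠ 1 →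
    t = ⟨0, 0, 1, 0⟩ ∨ t = ⟨0, 0, 2, 0⟩ ∨
    ∃ g h : T54, (t * g * t⁻¹ * g⁻¹ = ⟨0, 0, 1, 0⟩) ∨
      (t * g * t⁻¹ * g⁻¹) * h * (t * g * t⁻¹ * g⁻¹)⁻¹ * h⁻¹ = ⟨0, 0, 1, 0⟩ := by decide +kernel

variable {G : Type*} [Group G] {a b c : G}

theorem pow_val_add {x : G} (hx : x ^ 3 = 1) (i j : ZMod 3) :
    x ^ (i + j).val = x ^ i.val * x ^ j.val := by
  rw [ZMod.val_add, ← pow_add, ← pow_eq_pow_mod _ hx]

theorem pow_val_neg {x : G} (hx : x ^ 3 = 1) (i : ZMod 3) : x ^ (-i).val = (x ^ i.val)⁻¹ := by
  rw [eq_inv_iff_mul_eq_one, ← pow_val_add hx, neg_add_cancel, ZMod.val_zero, pow_zero]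

theorem pow_natCast {x : G} (hx : x ^ 3 = 1) (n : ℕ) : x ^ ((n : ZMod 3)).val = x ^ n := by
  rw [ZMod.val_natCast, ← pow_eq_pow_mod _ hx]

/-- The map to any group with a braid triple. -/
def toFun (a b c : G) (x : T54) : G :=
  (a * b) ^ x.i.val * (a * c) ^ x.j.val * zel a b c ^ x.k.val * a ^ x.e.val

theorem swap_pow (h : Tri a b c) (m n : ℕ) :
    (a * c) ^ m * (a * b) ^ n = (a * b) ^ n * (a * c) ^ m * zel a b c ^ (2 * (m * n)) := by
  set u := a * b
  set s := a * c
  set z := zel a b c
  have hz : ∀ k : ℕ, Commute (z ^ k) u ∧ Commute (z ^ k) s := fun k =>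
    ⟨h.commute_ab.pow_left k, h.commute_ac.pow_left k⟩
  have h0 : s * u = u * s * z ^ 2 := by
    have e := h.comm_rel
    have e3 : z ^ 2 * z = 1 := by rw [← pow_succ]; exact h.zel_cube
    calc s * u = z ^ 2 * z * (s * u) := by rw [e3, one_mul]
      _ = z ^ 2 * (z * (s * u)) := mul_assoc _ _ _
      _ = z ^ 2 * (u * s) := by rw [← e]
      _ = u * s * z ^ 2 := ((hz 2).1.mul_right (hz 2).2).eq
  have h1 : ∀ n : ℕ, s * u ^ n = u ^ n * s * z ^ (2 * n) := by
    intro n
    induction n with
    | zero => simp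
    | succ n ih =>
      rw [pow_succ, ← mul_assoc, ih, mul_assoc _ (z ^ (2 * n)), (hz (2 * n)).1.eq, ← mul_assoc,
        mul_assoc (u ^ n), h0]
      simp only [mul_assoc, ← pow_add]
      congr 4; ring
  induction m with
  | zero => simp
  | succ m ih =>
    rw [pow_succ', mul_assoc, ih, ← mul_assoc, ← mul_assoc, h1, mul_assoc (u ^ n * s),
      ((hz (2 * n)).2.pow_right m).eq]
    simp only [mul_assoc, ← pow_add]
    congr 4; ring

theorem conj_a (h : Tri a b c) (e : ZMod 2) (i j k : ZMod 3) :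
    a ^ e.val * ((a * b) ^ i.val * (a * c) ^ j.val * zel a b c ^ k.val) =
      (a * b) ^ (sg e * i).val * (a * c) ^ (sg e * j).val * zel a b c ^ k.val * a ^ e.val := by
  rcases (by decide : ∀ e : ZMod 2, e = 0 ∨ e = 1) e with rfl | rfl
  · simp [sg]
  rw [show sg 1 = -1 from rfl, neg_one_mul, neg_one_mul, pow_val_neg h.cube_ab, pow_val_neg h.cube_ac,
    ← inv_pow, ← inv_pow, h.inv_ab, h.inv_ac, show ((1 : ZMod 2)).val = 1 from rfl, pow_one]
  have conjpow : ∀ (x : G) (n : ℕ), a * x ^ n = (a * x * a) ^ n * a := by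
    intro x n
    induction n with
    | zero => simp
    | succ n ih =>
      rw [pow_succ, ← mul_assoc, ih, pow_succ]
      simp only [mul_assoc, h.sqa, mul_one]
  have hab : a * (a * b) * a = b * a := by rw [← mul_assoc, h.sqa, one_mul]
  have hac : a * (a * c) * a = c * a := by rw [← mul_assoc, h.sqa, one_mul]
  rw [← mul_assoc, ← mul_assoc, conjpow, hab, mul_assoc ((b * a) ^ _) a, conjpow, hac, ← mul_assoc,
    mul_assoc _ a, ← (h.commute_a.pow_left k.val).eq, ← mul_assoc]

theorem pow_e (h : Tri a b c) (e f : ZMod 2) : a ^ (e + f).val = a ^ e.val * a ^ f.val := by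
  rw [ZMod.val_add, ← pow_add, ← pow_eq_pow_mod _ (by rw [pow_two, h.sqa])]

/-- The homomorphism. -/
def toHom (h : Tri a b c) : T54 →* G where
  toFun := toFun a b c
  map_one' := by simp [toFun, one_def]
  map_mul' x y := by
    simp only [toFun, mul_def]
    have e1 := conj_a h x.e y.i y.j y.k
    calc _ = (a * b) ^ x.i.val * ((a * b) ^ (sg x.e * y.i).val * (a * c) ^ x.j.val *
          zel a b c ^ (2 * (x.j.val * (sg x.e * y.i).val))) * (a * c) ^ (sg x.e * y.j).val *
          (zel a b c ^ x.k.val * zel a b c ^ y.k.val) * (a ^ x.e.val * a ^ y.e.val) := by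
          rw [pow_val_add h.cube_ab, pow_val_add h.cube_ac, pow_e h,
            show x.k + y.k - x.j * (sg x.e * y.i) =
              ((2 * (x.j.val * (sg x.e * y.i).val) : ℕ) : ZMod 3) + (x.k + y.k) by
              push_cast
              simp only [ZMod.natCast_zmod_val]
              have : (3 : ZMod 3) = 0 := by decide
              linear_combination (-(x.j * (sg x.e * y.i))) * this,
            pow_val_add h.zel_cube, pow_val_add h.zel_cube, pow_natCast h.zel_cube]
          simp only [mul_assoc]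
          rw [((h.commute_ac.pow_left (2 * (x.j.val * (sg x.e * y.i).val))).pow_right
            (sg x.e * y.j).val).left_comm]
      _ = _ := by
          rw [← swap_pow h]
          simp only [mul_assoc] at e1 ⊢
          rw [← mul_assoc (a ^ x.e.val) ((a * b) ^ y.i.val)]
          simp only [mul_assoc]
          rw [show ∀ w, a ^ x.e.val * ((a * b) ^ y.i.val * ((a * c) ^ y.j.val * (zel a b c ^ y.k.val * w))) =
              (a * b) ^ (sg x.e * y.i).val * ((a * c) ^ (sg x.e * y.j).val * (zel a b c ^ y.k.val * (a ^ x.e.val * w)))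
            from fun w => by
              have := congrArg (fun q => q * w) e1
              simpa only [mul_assoc] using this]
          have hzk := fun w => (((h.commute_ab.pow_left x.k.val).pow_right (sg x.e * y.i).val).left_comm w)
          have hzk' := fun w => (((h.commute_ac.pow_left x.k.val).pow_right (sg x.e * y.j).val).left_comm w)
          rw [hzk, hzk']

theorem toHom_ga (h : Tri a b c) : toHom h ga = a := by
  show toFun a b c ga = a
  simp [toFun, ga, ZMod.val_one]

theorem toHom_gb (h : Tri a b c) : toHom h gb = b := by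
  show toFun a b c gb = b
  have h2 : (2 : ZMod 3).val = 2 := rfl
  simp only [toFun, gb, ZMod.val_zero, pow_zero, mul_one, h2, ZMod.val_one, pow_one]
  have e : (a * b) ^ 2 = b * a := by
    rw [← h.inv_ab, eq_inv_iff_mul_eq_one, ← pow_succ]; exact h.cube_ab
  rw [e, mul_assoc, h.sqa, mul_one]

theorem toHom_gc (h : Tri a b c) : toHom h gc = c := by
  show toFun a b c gc = c
  have h2 : (2 : ZMod 3).val = 2 := rfl
  simp only [toFun, gc, ZMod.val_zero, pow_zero, mul_one, one_mul, h2, ZMod.val_one, pow_one]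
  have e : (a * c) ^ 2 = c * a := by
    rw [← h.inv_ac, eq_inv_iff_mul_eq_one, ← pow_succ]; exact h.cube_ac
  rw [e, mul_assoc, h.sqa, mul_one]

theorem toHom_center (h : Tri a b c) : toHom h ⟨0, 0, 1, 0⟩ = zel a b c := by
  show toFun a b c _ = _
  simp [toFun, ZMod.val_one]

theorem toHom_injective (h : Tri a b c) (hz : zel a b c ≠ 1) : Function.Injective (toHom h) := by
  rw [injective_iff_map_eq_one]
  intro t ht
  by_contra hne
  apply hz
  rw [← toHom_center h]
  rcases reach_center t hne with rfl | rfl | ⟨g, k, hk | hk⟩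
  · exact ht
  · rw [show (⟨0, 0, 1, 0⟩ : T54) = ⟨0, 0, 2, 0⟩ * ⟨0, 0, 2, 0⟩ from rfl, map_mul, ht, mul_one]
  · rw [← hk]; simp [ht]
  · rw [← hk]; simp [ht]

theorem range_toHom (h : Tri a b c) : (toHom h).range = Subgroup.closure {a, b, c} := by
  refine le_antisymm ?_ ?_
  · rintro _ ⟨x, rfl⟩
    have ha : a ∈ Subgroup.closure {a, b, c} := Subgroup.subset_closure (by simp)
    have hb : b ∈ Subgroup.closure {a, b, c} := Subgroup.subset_closure (by simp)
    have hc : c ∈ Subgroup.closure {a, b, c} := Subgroup.subset_closure (by simp)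
    have hz : zel a b c ∈ Subgroup.closure {a, b, c} :=
      mul_mem (mul_mem (mul_mem (mul_mem ha hb) (mul_mem ha hc)) (mul_mem hb ha)) (mul_mem hc ha)
    exact mul_mem (mul_mem (mul_mem (pow_mem (mul_mem ha hb) _) (pow_mem (mul_mem ha hc) _)) (pow_mem hz _))
      (pow_mem ha _)
  · rw [Subgroup.closure_le]
    rintro x (rfl | rfl | rfl)
    exacts [⟨ga, toHom_ga h⟩, ⟨gb, toHom_gb h⟩, ⟨gc, toHom_gc h⟩]

end T54

end CfsgLib.TwoRadical
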