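import Cfsg.Agent.Lib.TwoRadical.Module

/-!
# The central element of a plane fixes only what the whole plane fixes
-/

set_option autoImplicit false
set_option linter.unusedSectionVars false

namespace CfsgLib.TwoRadical

open CfsgLib.ThreeTrans

variable {H : Type*} [Group H] {V : Type*} [AddCommGroup V] [DistribMulAction H V] {D : Set H}

/-- Pairwise non-commuting members, not collinear. -/
structure Plane (D : Set H) (a b c : H) : Prop where
  ma : a ∈ D
  mb : b ∈ D
  mc : c ∈ D
  nab : ¬ Commute a b
  nac : ¬ Commute a c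
  nbc : ¬ Commute b c
  off : ¬ Commute b (a * c * a)

namespace Plane

variable {a b c : H} (P : Plane D a b c) (M : IsMod V D)
include P M

theorem tri : Tri a b c := M.tri P.ma P.mb P.mc P.nab P.nac P.nbc P.off

/-- The triple with the third member reflected in the first. -/
theorem flip : Plane D a b (a * c * a) where
  ma := P.ma
  mb := P.mb
  mc := conj_mem_left M.closed P.ma P.mc
  nab := P.nab
  nac h := P.nac (by
    have h1 := (commute_conj_iff a a (a * c * a)).mpr h
    have hi := inv_eq M.closed.set P.ma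
    rw [hi] at h1
    simpa [mul_assoc, M.sq P.ma, mul_self_mul M.closed.set P.ma] using h1)
  nbc := P.off
  off := by
    simpa [mul_assoc, M.sq P.ma, mul_self_mul M.closed.set P.ma] using P.nbc

theorem ab_eq_one_false (h : a * b = 1) : False :=
  P.nab (((mul_eq_one_iff_eq' M.closed.set P.mb).mp h) ▸ Commute.refl a)

theorem off' : a * b * (a * c) ≠ 1 ∧ a * c ≠ a * b := by
  refine ⟨fun h => P.off ?_, fun h => P.nbc ((mul_left_cancel h) ▸ Commute.refl c)⟩
  have h1 : a * c = b * a := by
    rw [← (P.tri M).inv_ab]; exact eq_inv_of_mul_eq_one_right h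
  rw [h1, mul_assoc, M.sq P.ma, mul_one]

theorem zel_smul_comm {v : V} (hv : zel a b c • v = v) :
    (a * b) • ((a * c) • v) = (a * c) • ((a * b) • v) := by
  rw [← mul_smul, (P.tri M).comm_rel, ← mul_smul]
  have hc : Commute (zel a b c) (a * c * (a * b)) := (P.tri M).commute_ac.mul_right (P.tri M).commute_ab
  rw [hc.eq, mul_smul, hv]

theorem zel_fixed_smul {x : H} (hx : Commute (zel a b c) x) {v : V} (hv : zel a b c • v = v) :
    zel a b c • (x • v) = x • v := by rw [← mul_smul, hx.eq, mul_smul, hv]

omit P in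
/-- An element of order three inverted by `a` fixes a vector fixed by `a` whose image is fixed by `a`. -/
theorem fixed_of_inverted {x : H} (hx : x ^ 3 = 1) (hinv : a * x * a = x⁻¹) {v : V} (hav : a • v = v)
    (haxv : a • (x • v) = x • v) : x • v = v := by
  have h1 : x • v = x⁻¹ • v := by
    rw [← hinv, mul_smul, mul_smul, hav, haxv]
  have h2 : (x * x) • v = v := by rw [mul_smul, h1, smul_inv_smul]
  have h3 : x • ((x * x) • v) = v := by
    rw [← mul_smul, show x * (x * x) = x ^ 3 by simp [pow_succ, mul_assoc], hx, one_smul]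
  rwa [h2] at h3

theorem inv_fst : a * (a * b) * a = (a * b)⁻¹ := by
  rw [(P.tri M).inv_ab, ← mul_assoc, M.sq P.ma, one_mul]

theorem inv_snd : a * (a * c) * a = (a * c)⁻¹ := by
  rw [(P.tri M).inv_ac, ← mul_assoc, M.sq P.ma, one_mul]

/-- On the fixed points of the centre, the first product fixes what the second does. -/
theorem snd_of_fst {v : V} (hz : zel a b c • v = v) (hu : (a * b) • v = v) : (a * c) • v = v :=
  fixed_of_inverted M (P.tri M).cube_ac (P.inv_snd M) (M.fix_both P.ma P.mb P.nab hu).1
    (M.fix_both P.ma P.mb P.nab (by rw [P.zel_smul_comm M hz, hu])).1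

theorem fst_of_snd {v : V} (hz : zel a b c • v = v) (hs : (a * c) • v = v) : (a * b) • v = v :=
  fixed_of_inverted M (P.tri M).cube_ab (P.inv_fst M) (M.fix_both P.ma P.mc P.nac hs).1
    (M.fix_both P.ma P.mc P.nac (by rw [← P.zel_smul_comm M hz, hs])).1

theorem cube_mul : (a * b * (a * c)) ^ 3 = 1 := by
  have h := congrArg (T54.toHom (P.tri M))
    (show (T54.ga * T54.gb * (T54.ga * T54.gc)) ^ 3 = 1 by decide +kernel)
  simpa only [map_pow, map_mul, map_one, T54.toHom_ga, T54.toHom_gb, T54.toHom_gc] using h

theorem fst_of_mul {v : V} (hz : zel a b c • v = v) (hy : (a * b * (a * c)) • v = v) :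
    (a * b) • v = v := by
  have T := P.tri M
  set y := a * b * (a * c) with hydef
  set e := y * y * a * (y * y)⁻¹ with he
  have heD : e ∈ D := M.closed.conj _ _ P.ma
  have haya : a * y⁻¹ * a = a * c * (a * b) := by
    rw [hydef, mul_inv_rev, T.inv_ac, T.inv_ab]
    simp [mul_assoc, M.sq P.ma]
  have hea : e * a = y * y * (a * c * (a * b)) * (a * c * (a * b)) := by
    rw [← haya, he, mul_inv_rev]
    simp [mul_assoc, mul_self_mul M.closed.set P.ma]
  have hfix : ∀ w : V, zel a b c • w = w → y • w = w → (e * a) • w = w := by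
    intro w hzw hyw
    have hsw : (a * c * (a * b)) • w = w := by
      rw [mul_smul, ← P.zel_smul_comm M hzw, ← mul_smul]; exact hyw
    rw [hea, mul_smul, hsw, mul_smul, hsw, mul_smul, hyw, hyw]
  have hne : ¬ Commute e a := by
    intro hc
    have h2 : (e * a) ^ 2 = 1 := (sq_eq_one_iff M.closed.set heD P.ma).mpr hc
    set z := zel a b c with hzdef
    have hsu : a * c * (a * b) = z⁻¹ * y := by rw [hydef, T.comm_rel, inv_mul_cancel_left]
    have hcy : Commute z y := T.commute_ab.mul_right T.commute_ac
    have hy3 : y * y * y = 1 := by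
      have := P.cube_mul M
      rw [← hydef] at this; simpa [pow_succ, mul_assoc] using this
    have hz2 : z⁻¹ * z⁻¹ = z := by
      rw [← mul_inv_rev, inv_eq_iff_mul_eq_one, mul_assoc]
      have := T.zel_cube
      simpa [pow_succ, mul_assoc] using this
    have hey : e * a = z * y := by
      rw [hea, hsu]
      calc y * y * (z⁻¹ * y) * (z⁻¹ * y) = y * y * y * (z⁻¹ * z⁻¹) * y := by
            rw [mul_assoc (y * y * y), mul_assoc z⁻¹ z⁻¹ y, ← mul_assoc (y * y * y), mul_assoc (y * y) y,
              ← (hcy.inv_left).eq, mul_assoc (y * y)]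
        _ = z * y := by rw [hy3, one_mul, hz2]
    have h3 : (e * a) ^ 3 = 1 := by
      rw [hey, hcy.mul_pow, T.zel_cube, one_mul, P.cube_mul M]
    rw [pow_succ, h2, one_mul, hey] at h3
    have hyz : y = z⁻¹ := eq_inv_of_mul_eq_one_right h3
    have hcu : Commute y (a * b) := hyz ▸ T.commute_ab.inv_left
    have huscomm : a * b * (a * c) = a * c * (a * b) := by
      have h5 := hcu.eq
      rw [hydef, mul_assoc] at h5
      exact (mul_left_cancel h5).symm
    have hz1 : z = 1 := by
      have h6 := T.comm_rel
      rw [← huscomm] at h6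
      exact mul_eq_right.mp h6.symm
    exact (P.off' M).1 (show y = 1 by rw [hyz, hz1, inv_one])
  refine fixed_of_inverted M T.cube_ab (P.inv_fst M) (M.fix_both heD P.ma hne (hfix v hz hy)).2
    (M.fix_both heD P.ma hne (hfix _ (P.zel_fixed_smul M T.commute_ab hz) ?_)).2
  rw [hydef, mul_smul, ← P.zel_smul_comm M hz, ← mul_smul (a * b) (a * c)]
  exact congrArg (fun w => (a * b) • w) hy

theorem zel_flip : zel a b (a * c * a) = (zel a b c)⁻¹ := by
  have T := P.tri M
  have e : a * (a * c * a) = c * a := by rw [← mul_assoc, ← mul_assoc, M.sq P.ma, one_mul]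
  have e' : (a * c * a) * a = a * c := by rw [mul_assoc, M.sq P.ma, mul_one]
  have h2 : a * b * (a * c) * (a * b)⁻¹ = zel a b c * (a * c) := by
    rw [T.comm_rel]; group
  have h3 : a * b * (a * c)⁻¹ * (a * b)⁻¹ = (zel a b c * (a * c))⁻¹ := by
    rw [← h2]; group
  rw [show zel a b (a * c * a) = a * b * (a * (a * c * a)) * (b * a) * (a * c * a * a) from rfl,
    e, e', ← T.inv_ac, ← T.inv_ab, h3, mul_inv_rev, mul_assoc, (T.commute_ac.inv_left).eq,
    inv_mul_cancel_left]

/-- Fixed points of the central element are fixed by the plane. -/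
theorem fixed_of_zel {v : V} (hz : zel a b c • v = v) : a • v = v ∧ b • v = v ∧ c • v = v := by
  have T := P.tri M
  suffices h : (a * b) • v = v by
    refine ⟨(M.fix_both P.ma P.mb P.nab h).1, (M.fix_both P.ma P.mb P.nab h).2, ?_⟩
    exact (M.fix_both P.ma P.mc P.nac (P.snd_of_fst M hz h)).2
  set z := zel a b c with hzdef
  set u := a * b with hu
  set s := a * c with hs
  have hN : ∀ {x : H}, Commute z x → ∀ {w : V}, z • w = w → z • (x • w) = x • w :=
    fun hx w hw => P.zel_fixed_smul M hx hw
  have hNn : ∀ {x : H}, Commute z x → ∀ {w : V}, z • w = w → z • nrm x w = nrm x w := fun hx w hw => by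
    rw [smul_nrm_comm hx.symm, hw]
  have hsw : ∀ {w : V}, z • w = w → u • (s • w) = s • (u • w) := fun hw => P.zel_smul_comm M hw
  have hc2 : s * s = c * a := by
    rw [hs, ← T.inv_ac, eq_inv_iff_mul_eq_one]
    have := T.cube_ac
    simpa [pow_succ, mul_assoc] using this
  have hP' := P.flip M
  -- the five sums
  have h1 : u • nrm u v = nrm u v := smul_nrm T.cube_ab v
  have h2 : u • nrm s v = nrm s v :=
    P.fst_of_snd M (hNn T.commute_ac hz) (smul_nrm T.cube_ac v)
  have h3 : u • (v + u • (s • v) + u • (u • (s • (s • v)))) = v + u • (s • v) + u • (u • (s • (s • v))) := by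
    have e : v + u • (s • v) + u • (u • (s • (s • v))) = nrm (u * s) v := by
      simp only [nrm, mul_smul]
      rw [← hsw (hN T.commute_ac hz)]
    rw [e]
    exact P.fst_of_mul M (hNn (T.commute_ab.mul_right T.commute_ac) hz) (smul_nrm (P.cube_mul M) v)
  have h4 : u • (v + u • (s • (s • v)) + u • (u • (s • v))) = v + u • (s • (s • v)) + u • (u • (s • v)) := by
    have hzc : Commute z (c * a) := hc2 ▸ T.commute_ac.mul_right T.commute_ac
    have hs3 : ∀ w : V, s • (s • (s • w)) = w := fun w => by
      rw [← mul_smul, ← mul_smul, show s * s * s = s ^ 3 by simp [pow_succ], T.cube_ac, one_smul]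
    have e : v + u • (s • (s • v)) + u • (u • (s • v)) = nrm (u * (c * a)) v := by
      simp only [nrm, ← hc2, mul_smul]
      congr 2
      rw [← hsw (hN T.commute_ac (hN T.commute_ac hz)), hs3, hsw hz]
    have e2 : a * (a * c * a) = c * a := by rw [← mul_assoc, ← mul_assoc, M.sq P.ma, one_mul]
    have hzw : zel a b (a * c * a) • nrm (u * (c * a)) v = nrm (u * (c * a)) v := by
      rw [P.zel_flip M, inv_smul_eq_iff]
      exact (hNn (T.commute_ab.mul_right hzc) hz).symm
    have hcube : (u * (c * a)) ^ 3 = 1 := by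
      have := hP'.cube_mul M
      rwa [e2] at this
    rw [e]
    have := hP'.fst_of_mul M hzw (by rw [e2]; exact smul_nrm hcube v)
    exact this
  have h5 : u • nrm u (nrm s v) = nrm u (nrm s v) := smul_nrm T.cube_ab _
  rw [← five_sum M.add_self u s v]
  simp only [smul_add] at h3 h4 ⊢
  rw [h1, h2, h3, h4, h5]

end Plane

end CfsgLib.TwoRadical
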