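import Cfsg.Agent.Lib.TwoRadical.Model
import Cfsg.Agent.Lib.ClassicalGroups.HermGroup


/-!
# `SU(3,2)` over a computable field: the finite checks
-/

set_option autoImplicit false

namespace CfsgLib.TwoRadical

/-- The field of four elements, as pairs `x + y ω`. -/
@[ext]
structure GF4 where
  x : ZMod 2
  y : ZMod 2
deriving DecidableEq, Fintype

namespace GF4

instance : Zero GF4 where zero := ⟨0, 0⟩
instance : One GF4 where one := ⟨1, 0⟩
instance : Add GF4 where add a b := ⟨a.x + b.x, a.y + b.y⟩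
instance : Neg GF4 where neg a := a
instance : Mul GF4 where mul a b := ⟨a.x * b.x + a.y * b.y, a.x * b.y + a.y * b.x + a.y * b.y⟩
instance : Inv GF4 where inv a := ⟨a.x + a.y, a.y⟩

instance : CommRing GF4 where
  add_assoc := by decide
  zero_add := by decide
  add_zero := by decide
  nsmul := nsmulRec
  zsmul := zsmulRec
  add_comm := by decide
  left_distrib := by decide
  right_distrib := by decide
  zero_mul := by decide
  mul_zero := by decide
  mul_assoc := by decide
  one_mul := by decide
  mul_one := by decide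
  neg_add_cancel := by decide
  mul_comm := by decide

instance : Field GF4 where
  exists_pair_ne := ⟨0, 1, by decide⟩
  mul_inv_cancel := by decide
  inv_zero := by decide
  nnqsmul := _
  nnqsmul_def := fun _ _ => rfl
  qsmul := _
  qsmul_def := fun _ _ => rfl

theorem card_four : Fintype.card GF4 = 4 := by decide

/-- A primitive cube root of unity. -/
def w : GF4 := ⟨0, 1⟩

end GF4

open GF4 Matrix

/-- The matrices of determinant one. -/
abbrev SL3 : Type := SpecialLinearGroup (Fin 3) GF4

/-- The unitary group. -/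
abbrev SU32 : Subgroup SL3 := Cfsg.SU 3 GF4 2

/-- Matrices. -/
def matA : SL3 := ⟨!![1, 0, 0; 0, 0, 1; 0, 1, 0], by decide +kernel⟩
def matB : SL3 := ⟨!![1, 0, 0; 0, 0, w * w; 0, w, 0], by decide +kernel⟩
def matC : SL3 := ⟨!![0, 0, 1; 0, 1, 0; 1, 0, 0], by decide +kernel⟩
def matF : SL3 := ⟨!![1, 1, 1; 1, w, w * w; 1, w * w, w], by decide +kernel⟩
def matG : SL3 := ⟨!![1, 1, w * w; 1, w, w; w, 1, w], by decide +kernel⟩

theorem sq_add : ∀ x y : GF4, (x + y) ^ 2 = x ^ 2 + y ^ 2 := by decide +kernel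

/-- The column test for being unitary. -/
def Cols (g : SL3) : Prop := ∀ i j : Fin 3,
  g.1 0 i * (g.1 0 j * g.1 0 j) + g.1 1 i * (g.1 1 j * g.1 1 j) + g.1 2 i * (g.1 2 j * g.1 2 j) =
    if i = j then 1 else 0

theorem mem_of_cols {g : SL3} (h : Cols g) : g ∈ SU32 := by
  rw [CfsgLib.ClassicalGroups.mem_SU_iff]
  intro u v
  simp only [Cfsg.hermForm, Matrix.mulVec, dotProduct, Fin.sum_univ_three, sq_add, mul_pow]
  simp only [pow_two]
  have h00 := h 0 0; have h01 := h 0 1; have h02 := h 0 2
  have h10 := h 1 0; have h11 := h 1 1; have h12 := h 1 2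
  have h20 := h 2 0; have h21 := h 2 1; have h22 := h 2 2
  simp only [Fin.isValue, Fin.reduceEq, if_true, if_false] at h00 h01 h02 h10 h11 h12 h20 h21 h22
  linear_combination (u 0 * (v 0 * v 0)) * h00 + (u 0 * (v 1 * v 1)) * h01 + (u 0 * (v 2 * v 2)) * h02 +
    (u 1 * (v 0 * v 0)) * h10 + (u 1 * (v 1 * v 1)) * h11 + (u 1 * (v 2 * v 2)) * h12 +
    (u 2 * (v 0 * v 0)) * h20 + (u 2 * (v 1 * v 1)) * h21 + (u 2 * (v 2 * v 2)) * h22

theorem matA_mem : matA ∈ SU32 := mem_of_cols (by unfold Cols; decide +kernel)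
theorem matB_mem : matB ∈ SU32 := mem_of_cols (by unfold Cols; decide +kernel)
theorem matC_mem : matC ∈ SU32 := mem_of_cols (by unfold Cols; decide +kernel)
theorem matF_mem : matF ∈ SU32 := mem_of_cols (by unfold Cols; decide +kernel)
theorem matG_mem : matG ∈ SU32 := mem_of_cols (by unfold Cols; decide +kernel)

theorem tri_mat : Tri matA matB matC := by
  constructor
  all_goals first
    | (show _ = _; decide +kernel)

theorem zel_mat_ne : zel matA matB matC ≠ 1 := by decide +kernel

/-- The monomial subgroup. -/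
def mono : Subgroup SL3 := (T54.toHom tri_mat).range

theorem mem_mono_iff {g : SL3} : g ∈ mono ↔ ∃ t, T54.toFun matA matB matC t = g := Iff.rfl

theorem mono_le : mono ≤ SU32 := by
  rw [mono, T54.range_toHom, Subgroup.closure_le]
  rintro x (rfl | rfl | rfl)
  exacts [matA_mem, matB_mem, matC_mem]

theorem card_mono : Nat.card mono = 54 := by
  rw [mono, ← Nat.card_congr (MonoidHom.ofInjective (T54.toHom_injective tri_mat zel_mat_ne)).toEquiv, T54.card]

theorem card_SU32 : Nat.card SU32 = 216 := by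
  have h := CfsgLib.ClassicalGroups.card_SU_mul (F := GF4) (q := 2) (by decide) (n := 3) (by norm_num)
  have h' := CfsgLib.ClassicalGroups.card_GU (F := GF4) (q := 2) (by decide) 3
  rw [h'] at h
  have e : 2 ^ (3 * (3 - 1) / 2) *
      ∏ i ∈ Finset.range 3, (if Even i then 2 ^ (i + 1) + 1 else 2 ^ (i + 1) - 1) = 3 * 216 := by decide
  rw [e] at h
  exact Nat.eq_of_mul_eq_mul_left (by norm_num) h

/-- Coset representatives. -/
def reps : Fin 4 → SL3 := ![1, matF, matG, matF * matG]

theorem reps_mem : ∀ i, reps i ∈ SU32 := by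
  intro i
  fin_cases i
  exacts [one_mem _, matF_mem, matG_mem, mul_mem matF_mem matG_mem]

/-- Whether row `i` has at most the entry in column `j`. -/
def rowOK (g : SL3) (i j : Fin 3) : Bool := decide (∀ k : Fin 3, k = j ∨ g.1 i k = 0)

/-- At most one non-zero entry in each row. -/
def IsMonomial (g : SL3) : Prop := ∀ i : Fin 3, ∃ j : Fin 3, rowOK g i j = true

theorem IsMonomial.mul {g h : SL3} (hg : IsMonomial g) (hh : IsMonomial h) : IsMonomial (g * h) := by
  intro i
  obtain ⟨j, hj⟩ := hg i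
  obtain ⟨l, hl⟩ := hh j
  have hj := of_decide_eq_true hj
  have hl := of_decide_eq_true hl
  refine ⟨l, decide_eq_true fun k => (eq_or_ne k l).imp id fun hk => ?_⟩
  show (g.1 * h.1) i k = 0
  rw [Matrix.mul_apply, Finset.sum_eq_single j (fun m _ hm => by rw [(hj m).resolve_left hm, zero_mul]) (by simp),
    (hl k).resolve_left hk, mul_zero]

theorem mono_monomial {g : SL3} (hg : g ∈ mono) : IsMonomial g := by
  rw [mono, T54.range_toHom, ← Subgroup.mem_toSubmonoid, Subgroup.closure_toSubmonoid_of_finite] at hg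
  induction hg using Submonoid.closure_induction with
  | mem x hx =>
    rcases hx with rfl | rfl | rfl <;> · unfold IsMonomial; decide +kernel
  | one => unfold IsMonomial; decide +kernel
  | mul x y _ _ ihx ihy => exact ihx.mul ihy

/-- Inverses of the representatives. -/
def repsInv : Fin 4 → SL3 :=
  ![1, matF * matF * matF, matG * matG * matG, matG * matG * matG * (matF * matF * matF)]

theorem repsInv_mul : ∀ i, repsInv i * reps i = 1 := by
  intro i
  fin_cases i <;> decide +kernel

theorem reps_not_monomial : ∀ i j : Fin 4, i ≠ j → ¬ IsMonomial (repsInv i * reps j) := by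
  intro i j hij
  fin_cases i <;> fin_cases j
  all_goals first
    | exact absurd rfl hij
    | (unfold IsMonomial; decide +kernel)

theorem reps_distinct (i j : Fin 4) (hij : i ≠ j) : (reps i)⁻¹ * reps j ∉ mono := by
  rw [inv_eq_of_mul_eq_one_left (repsInv_mul i)]
  exact fun h => reps_not_monomial i j hij (mono_monomial h)

theorem conj_of_eq {r m : SL3} (t : T54) (h : r * m = T54.toFun matA matB matC t * r) :
    r * m * r⁻¹ = T54.toHom tri_mat t := by
  rw [h, mul_inv_cancel_right]; rfl

theorem reps_conj : ∀ r ∈ [matF, matG], ∀ m ∈ [matA, matB, matC], r * m * r⁻¹ ∈ mono := by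
  intro r hr m hm
  simp only [List.mem_cons, List.not_mem_nil, or_false] at hr hm
  rcases hr with rfl | rfl <;> rcases hm with rfl | rfl | rfl
  exacts [⟨_, (conj_of_eq ⟨0, 0, 0, 1⟩ (by decide +kernel)).symm⟩,
    ⟨_, (conj_of_eq ⟨0, 1, 0, 1⟩ (by decide +kernel)).symm⟩,
    ⟨_, (conj_of_eq ⟨2, 0, 0, 1⟩ (by decide +kernel)).symm⟩,
    ⟨_, (conj_of_eq ⟨1, 2, 2, 1⟩ (by decide +kernel)).symm⟩,
    ⟨_, (conj_of_eq ⟨2, 0, 0, 1⟩ (by decide +kernel)).symm⟩,
    ⟨_, (conj_of_eq ⟨2, 1, 2, 1⟩ (by decide +kernel)).symm⟩]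

theorem commutator_matC : (matF * matG * matF⁻¹ * matG⁻¹) ^ 3 = matC := by
  rw [show matF⁻¹ = matF * matF * matF from inv_eq_of_mul_eq_one_left (by decide +kernel),
    show matG⁻¹ = matG * matG * matG from inv_eq_of_mul_eq_one_left (by decide +kernel)]
  decide +kernel

end CfsgLib.TwoRadical
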