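import Cfsg.Agent.Lib.TwoRadical.Plane
import Cfsg.Agent.Lib.ThreeTrans.Cores

/-!
# A group with such a module has only one class of 3-transpositions
-/

set_option autoImplicit false
set_option linter.unusedSectionVars false

namespace CfsgLib.TwoRadical

open CfsgLib.ThreeTrans

variable {H : Type*} [Group H] {V : Type*} [AddCommGroup V] [DistribMulAction H V] [Finite V]

/-- A generating class with its module, without twins. -/
structure IsClassMod (V : Type*) [AddCommGroup V] [DistribMulAction H V] (D : Set H) : Prop where
  mod : IsMod V D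
  twins : ∀ a b, VRel D a b → a = b
  gen : Subgroup.closure D = ⊤

theorem nrm_inv {g : H} (hg : g ^ 3 = 1) (v : V) : nrm g⁻¹ v = nrm g v := by
  have h1 : g⁻¹ = g * g := inv_eq_of_mul_eq_one_right (by rw [← hg]; simp [pow_succ, mul_assoc])
  have h2 : g * g * (g * g) = g := by
    calc g * g * (g * g) = g ^ 3 * g := by simp [pow_succ, mul_assoc]
      _ = g := by rw [hg, one_mul]
  simp only [nrm, ← mul_smul, h1, h2]
  abel

theorem nrm_conj {y : H} (hy : y * y = 1) (g : H) (v : V) : y • nrm g v = nrm (y * g * y) (y • v) := by
  simp only [nrm, smul_add, ← mul_smul, mul_assoc, hy, mul_one]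
  simp only [← mul_assoc y y, hy, one_mul]

namespace IsClassMod

variable {D E : Set H} (A : IsClassMod V D) (B : IsClassMod V E)

section one

include A

theorem inter_zero {a b : H} (ha : a ∈ D) (hb : b ∈ D) (hne : a ≠ b) {x : V} (hxa : x ∈ img V a)
    (hxb : x ∈ img V b) : x = 0 := by
  by_cases hab : Commute a b
  · obtain ⟨y, hy, h⟩ : ∃ y ∈ D, ¬ (Commute b y ↔ Commute a y) := by
      by_contra h
      push Not at h
      exact hne (A.twins a b ⟨ha, hb, h⟩)
    by_cases hay : Commute a y
    · exact A.mod.fix_zero hb hy (fun k => h ⟨fun _ => hay, fun _ => k⟩) hxb (A.mod.img_fix ha hy hay hxa)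
    · refine A.mod.fix_zero ha hy hay hxa (A.mod.img_fix hb hy ?_ hxb)
      by_contra hby
      exact h ⟨fun k => absurd k hby, fun k => absurd k hay⟩
  · exact A.mod.fix_zero ha hb hab hxa (A.mod.smul_img hb hxb)

end one

theorem smul_img_of_sq {e a : H} (he : e * e = 1) {x : V} (hx : x ∈ img V a) : e • x ∈ img V (e * a * e) := by
  have := smul_mem_img e hx
  rwa [inv_eq_of_mul_eq_one_right he] at this

section two

variable (faith : ∀ g : H, (∀ v : V, g • v = v) → g = 1)
include A B

theorem inj_img {e a : H} (he : e ∈ E) (ha : a ∈ D) (h : ¬ Commute e a) {x : V} (hx : x ∈ img V a)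
    (hex : e • x = x) : x = 0 := by
  have hne : a ≠ e * a * e := by
    intro k
    apply h
    have := congrArg (fun q => e * q) k
    simp only [← mul_assoc, B.mod.sq he, one_mul] at this
    exact this
  refine A.inter_zero ha ?_ hne hx ?_
  · have := A.mod.closed.conj e a ha
    rwa [inv_eq B.mod.closed.set he] at this
  · rw [← hex]; exact smul_img_of_sq (B.mod.sq he) hx

theorem card_img_le {e a : H} (he : e ∈ E) (ha : a ∈ D) (h : ¬ Commute e a) :
    Nat.card (img V a) ≤ Nat.card (img V e) := by
  refine Nat.card_le_card_of_injective (fun x : img V a => (⟨(x : V) + e • (x : V), mem_img.mpr ⟨x, rfl⟩⟩ : img V e)) ?_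
  intro x y hxy
  have h1 : ((x : V) + e • (x : V)) = (y : V) + e • (y : V) := congrArg Subtype.val hxy
  refine Subtype.ext (A.mod.eq_of_add (A.inj_img B he ha h (add_mem x.2 y.2) ?_))
  rw [smul_add]
  calc e • (x : V) + e • (y : V) = ((x : V) + e • (x : V)) + ((y : V) + e • (y : V)) + ((x : V) + (y : V)) := by
        have h0 := A.mod.add_self
        calc e • (x : V) + e • (y : V) = e • (x : V) + e • (y : V) + (((x : V) + x) + ((y : V) + y)) := by
              rw [h0, h0, add_zero, add_zero]
          _ = _ := by abel
    _ = (x : V) + (y : V) := by rw [h1, A.mod.add_self, zero_add]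

theorem img_exists {e a : H} (he : e ∈ E) (ha : a ∈ D) (h : ¬ Commute e a) {x : V} (hx : x ∈ img V e) :
    ∃ w ∈ img V a, x = w + e • w := by
  let f : img V a → img V e := fun w => ⟨(w : V) + e • (w : V), mem_img.mpr ⟨w, rfl⟩⟩
  have hinj : Function.Injective f := by
    intro w w' hw
    have h1 : ((w : V) + e • (w : V)) = (w' : V) + e • (w' : V) := congrArg Subtype.val hw
    refine Subtype.ext (A.mod.eq_of_add (A.inj_img B he ha h (add_mem w.2 w'.2) (B.mod.eq_of_add ?_)))
    rw [smul_add]
    calc e • (w : V) + e • (w' : V) + ((w : V) + w') = ((w : V) + e • (w : V)) + ((w' : V) + e • (w' : V)) := by abel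
      _ = 0 := by rw [h1, A.mod.add_self]
  have hsurj := (Nat.bijective_iff_injective_and_card f).mpr
    ⟨hinj, le_antisymm (A.card_img_le B he ha h) (B.card_img_le A ha he fun k => h k.symm)⟩
  obtain ⟨w, hw⟩ := hsurj.2 ⟨x, hx⟩
  exact ⟨w, w.2, (congrArg Subtype.val hw).symm⟩

include faith

theorem not_commute_conj {e a : H} (he : e ∈ E) (ha : a ∈ D) (h : ¬ Commute e a) :
    ¬ Commute a (e * a * e) := by
  intro hab
  have hb : e * a * e ∈ D := by
    have := A.mod.closed.conj e a ha
    rwa [inv_eq B.mod.closed.set he] at this
  refine ne_one A.mod.closed.set ha (faith a fun v => (A.mod.eq_of_add ?_).symm)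
  set w := v + a • v with hw
  have hwa : w ∈ img V a := mem_img.mpr ⟨v, rfl⟩
  have hew := smul_img_of_sq (B.mod.sq he) hwa
  have h1 : w + e • w = 0 := B.inj_img A ha he (fun k => h k.symm) (mem_img.mpr ⟨w, rfl⟩) (by
    rw [smul_add, A.mod.smul_img ha hwa, A.mod.img_fix hb ha hab.symm hew])
  exact A.inj_img B he ha h hwa (A.mod.eq_of_add h1).symm

/-- The third member of the pair commutes with the foreign involution. -/
theorem third {e a : H} (he : e ∈ E) (ha : a ∈ D) (h : ¬ Commute e a) :
    a * (e * a * e) * a ∈ D ∧ Commute e (a * (e * a * e) * a) ∧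
      ¬ Commute a (a * (e * a * e) * a) ∧
      (a * (e * a * e) * a) * a * (a * (e * a * e) * a) = e * a * e := by
  have hab := A.not_commute_conj B faith he ha h
  set b := e * a * e with hb
  have hbD : b ∈ D := by
    have := A.mod.closed.conj e a ha
    rwa [inv_eq B.mod.closed.set he] at this
  have hbr : a * b * a = b * a * b := braid A.mod.closed.set ha hbD hab
  have hsa := A.mod.sq ha
  have hsb := A.mod.sq hbD
  have hse := B.mod.sq he
  have hee : ∀ t : H, e * (e * t) = t := fun t => by rw [← mul_assoc, hse, one_mul]
  refine ⟨conj_mem_left A.mod.closed ha hbD, ?_, ?_, ?_⟩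
  · have e1 : e * (a * b * a) * e = b * a * b := by
      rw [hb]; simp [mul_assoc, hee, hse]
    rw [← hbr] at e1
    have := congrArg (fun q => q * e) e1
    simp only [mul_assoc, hse, mul_one] at this
    rw [commute_iff_eq]
    simpa [mul_assoc] using this
  · intro k
    apply hab
    have h1 := (commute_conj_iff a a (a * b * a)).mpr k
    rw [inv_eq A.mod.closed.set ha] at h1
    simpa [mul_assoc, hsa, mul_self_mul A.mod.closed.set ha] using h1
  · calc a * b * a * a * (a * b * a) = a * b * a * b * a := by
          simp [mul_assoc, hsa, mul_self_mul A.mod.closed.set ha]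
      _ = b * a * b * b * a := by rw [hbr]
      _ = b := by simp [mul_assoc, hsb, hsa, mul_self_mul A.mod.closed.set hbD]

/-- Outside `D`, the foreign involution and the third member commute with the same members. -/
theorem same_commuting {e a : H} (he : e ∈ E) (ha : a ∈ D) (h : ¬ Commute e a) (heD : e ∉ D)
    {y : H} (hy : y ∈ D) : Commute (a * (e * a * e) * a) y ↔ Commute e y := by
  obtain ⟨hcD, hec, hac, hcac⟩ := A.third B faith he ha h
  have hab := A.not_commute_conj B faith he ha h
  set b := e * a * e with hb
  set c := a * b * a with hc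
  have hbD : b ∈ D := by
    have := A.mod.closed.conj e a ha
    rwa [inv_eq B.mod.closed.set he] at this
  clear_value c
  have hse := B.mod.sq he
  have hsc := A.mod.sq hcD
  have hee : ∀ t : H, e * (e * t) = t := fun t => by rw [← mul_assoc, hse, one_mul]
  have hcc : ∀ t : H, c * (c * t) = t := fun t => by rw [← mul_assoc, hsc, one_mul]
  have hei := inv_eq B.mod.closed.set he
  have hci := inv_eq A.mod.closed.set hcD
  -- `h = e c` commutes with `a`
  have hha : Commute (e * c) a := by
    have e1 : c * a = b * c := by rw [← hcac, mul_assoc, hsc, mul_one]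
    have e2 : e * b = a * e := by rw [hb]; simp [mul_assoc, hee]
    calc e * c * a = e * b * c := by rw [mul_assoc, e1, ← mul_assoc]
      _ = a * (e * c) := by rw [e2, mul_assoc]
  -- some vector of `img a` moves
  obtain ⟨w, hw, hmove⟩ : ∃ w ∈ img V a, (e * c) • w ≠ w := by
    by_contra hall
    push Not at hall
    apply heD
    have heq : e * c = 1 := by
      refine faith _ fun v => ?_
      set t := a * b with ht
      have hbt : Commute (e * c) b := by
        have hhc : Commute (e * c) c := (hec.mul_left (Commute.refl c))
        rw [show b = c * a * c from hcac.symm]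
        exact (hhc.mul_right hha).mul_right hhc
      have hht : Commute (e * c) t := hha.mul_right hbt
      have hπ : (e * c) • nrm t v = nrm t v := by
        set p := nrm t v with hp
        have htp : t • p = p := smul_nrm (A.mod.cube ha hbD hab) v
        obtain ⟨hap, hbp⟩ := A.mod.fix_both ha hbD hab htp
        have hcp : c • p = p := by rw [hc, mul_smul, mul_smul, hap, hbp, hap]
        have htep : t • (e • p) = e • p := by
          have e1 : t * e = e * (b * a) := by rw [ht, hb]; simp [mul_assoc, hee, hse]
          rw [← mul_smul, e1, mul_smul e, mul_smul, hap, hbp]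
        have hep : e • p = p := by
          refine (A.mod.eq_of_add (B.inj_img A ha he (fun k => h k.symm) (mem_img.mpr ⟨p, rfl⟩) ?_)).symm
          rw [smul_add, hap, (A.mod.fix_both ha hbD hab htep).1]
        rw [mul_smul, hcp, hep]
      have hq : ∀ x ∈ img V b, (e * c) • x = x := fun x hx => by
        have hcb : c * b * c = a := by
          rw [← hcac]; simp [mul_assoc, hcc, hsc]
        have h1 := smul_img_of_sq hsc hx
        rw [hcb] at h1
        have h2 := hall _ h1
        rw [← mul_smul, (hec.mul_left (Commute.refl c)).eq, mul_smul] at h2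
        exact MulAction.injective c h2
      have h1 : (e * c) • (v + t • v) = v + t • v := by
        have e1 : v + t • v = (v + b • v) + (b • v + a • (b • v)) := by
          rw [ht, mul_smul]
          calc v + a • b • v = v + a • b • v + (b • v + b • v) := by rw [A.mod.add_self, add_zero]
            _ = _ := by abel
        rw [e1, smul_add, hq _ (mem_img.mpr ⟨v, rfl⟩), hall _ (mem_img.mpr ⟨b • v, rfl⟩)]
      have e2 : v = nrm t v + t • (v + t • v) := by
        calc v = v + ((t • v + t • v) + (t • t • v + t • t • v)) := by rw [A.mod.add_self, A.mod.add_self, add_zero, add_zero]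
          _ = _ := by rw [nrm, smul_add]; abel
      calc (e * c) • v = (e * c) • (nrm t v + t • (v + t • v)) := by rw [← e2]
        _ = nrm t v + t • (v + t • v) := by rw [smul_add, hπ, ← mul_smul, hht.eq, mul_smul, h1]
        _ = v := e2.symm
    have : e = c := by rw [mul_eq_one_iff_eq_inv.mp heq, hci]
    rw [this]; exact hcD
  -- the two statements that would fix it
  have key : (c • (w + e • w) = w + e • w ∨ e • (w + c • w) = w + c • w) → False := by
    intro hcase
    apply hmove
    have e1 : c • (e • w) = (e * c) • w := by rw [hec.eq, mul_smul]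
    have e2 : e • (c • w) = (e * c) • w := (mul_smul _ _ _).symm
    have e3 : e • w = c • ((e * c) • w) := by rw [← e1, A.mod.smul_smul_self hcD]
    have hsum : c • w + (e * c) • w = w + e • w := by
      rcases hcase with k | k
      · rwa [smul_add, e1] at k
      · rw [smul_add, e2] at k
        calc c • w + (e * c) • w = (e • w + (e * c) • w) + (e • w + c • w) := by
              calc c • w + (e * c) • w = c • w + (e * c) • w + (e • w + e • w) := by rw [A.mod.add_self, add_zero]
                _ = _ := by abel
          _ = (w + c • w) + (e • w + c • w) := by rw [k]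
          _ = w + e • w + (c • w + c • w) := by abel
          _ = w + e • w := by rw [A.mod.add_self, add_zero]
    set q := w + (e * c) • w with hq
    have hqa : q ∈ img V a := add_mem hw (by
      have := smul_mem_img (e * c) hw
      rwa [hha.eq, mul_inv_cancel_right] at this)
    have hcq : c • q = q := by
      rw [hq, smul_add, ← e3]
      calc c • w + e • w = (c • w + (e * c) • w) + ((e * c) • w + e • w) := by
            calc c • w + e • w = c • w + e • w + ((e * c) • w + (e * c) • w) := by rw [A.mod.add_self, add_zero]
              _ = _ := by abel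
        _ = (w + e • w) + ((e * c) • w + e • w) := by rw [hsum]
        _ = w + (e * c) • w + (e • w + e • w) := by abel
        _ = w + (e * c) • w := by rw [A.mod.add_self, add_zero]
    exact (A.mod.eq_of_add (A.mod.fix_zero ha hcD hac hqa hcq)).symm
  constructor
  · intro hcy
    by_contra hey
    apply key
    left
    obtain ⟨q, hq, hqe⟩ := A.img_exists B he hy hey (x := w + e • w) (mem_img.mpr ⟨w, rfl⟩)
    rw [hqe, smul_add, A.mod.img_fix hy hcD hcy.symm hq]
    congr 1
    have hy' : e * y * e ∈ D := by
      have := A.mod.closed.conj e y hy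
      rwa [hei] at this
    refine A.mod.img_fix hy' hcD ?_ (smul_img_of_sq hse hq)
    have h1 := (commute_conj_iff e y c).mpr hcy.symm
    rw [hei, show e * c * e = c by rw [hec.eq, mul_assoc, hse, mul_one]] at h1
    exact h1
  · intro hey
    by_contra hcy
    apply key
    right
    -- `e` fixes `img y`
    have hfix : ∀ q ∈ img V y, e • q = q := by
      intro q hq
      set v := q + e • q with hv
      have hve : v ∈ img V e := mem_img.mpr ⟨q, rfl⟩
      have hvy : v ∈ img V y := add_mem hq (by
        have := smul_img_of_sq hse hq
        rwa [show e * y * e = y by rw [hey.eq, mul_assoc, hse, mul_one]] at this)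
      refine (A.mod.eq_of_add (show v = 0 from ?_)).symm
      by_cases hya : Commute y a
      · exact B.inj_img A ha he (fun k => h k.symm) hve (A.mod.img_fix hy ha hya hvy)
      by_cases hyb : Commute y b
      · refine B.inj_img A hbD he (fun k => h ?_) hve (A.mod.img_fix hy hbD hyb hvy)
        have h1 := (commute_conj_iff e b e).mpr k
        rw [hei, show e * b * e = a by rw [hb]; simp [mul_assoc, hee, hse],
          show e * e * e = e by rw [hse, one_mul]] at h1
        exact h1.symm
      -- a plane
      have hP : Plane D a c y := ⟨ha, hcD, hy, hac, fun k => hya k.symm, hcy, fun k => hyb (by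
        have h1 := (commute_conj_iff a c (a * y * a)).mpr k
        rw [inv_eq A.mod.closed.set ha, hc] at h1
        simpa [mul_assoc, A.mod.sq ha, mul_self_mul A.mod.closed.set ha] using h1.symm)⟩
      have T := hP.tri A.mod
      set u := a * c with hu
      set z := zel a c y with hz
      have hu3 : u ^ 3 = 1 := A.mod.cube ha hcD hac
      have hzy : Commute z y := T.commute_c
      have hzu : Commute z u := T.commute_ab
      have hza : Commute z a := T.commute_a
      have hz3 : z ^ 3 = 1 := T.zel_cube
      have hzf : ∀ x : V, z • x = x → a • x = x := fun x hx => (hP.fixed_of_zel A.mod hx).1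
      clear_value u z
      obtain ⟨w₀, hw₀, hvw⟩ := A.img_exists B he ha h hve
      have hnu : nrm u v = 0 := by
        have hk : ∀ x ∈ img V c, nrm u x = 0 := fun x hx => by
          rw [← nrm_inv hu3, hu, T.inv_ab]
          exact A.mod.nrm_img hcD ha (fun k => hac k.symm) hx
        have hb' : e • w₀ ∈ img V b := smul_img_of_sq hse hw₀
        have hcb : c * b * c = a := by rw [← hcac]; simp [mul_assoc, hcc, hsc]
        have h1 := smul_img_of_sq hsc hb'
        rw [hcb] at h1
        have e1 : e • w₀ = c • (e • w₀) + (c • (e • w₀) + c • c • (e • w₀)) := by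
          rw [A.mod.smul_smul_self hcD, ← add_assoc, A.mod.add_self, zero_add]
        rw [hvw, nrm_add, hu, A.mod.nrm_img ha hcD hac hw₀, zero_add, e1, nrm_add,
          A.mod.nrm_img ha hcD hac h1, zero_add, ← hu]
        exact hk _ (mem_img.mpr ⟨_, rfl⟩)
      have hnz : nrm z v = 0 := by
        have hap := hzf _ (smul_nrm hz3 v)
        refine A.mod.fix_zero hy ha hya ?_ hap
        have hzmem : ∀ x ∈ img V y, z • x ∈ img V y := fun x hx => by
          have := smul_mem_img z hx
          rwa [hzy.eq, mul_inv_cancel_right] at this
        exact add_mem (add_mem hvy (hzmem _ hvy)) (hzmem _ (hzmem _ hvy))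
      have hyv : y • v = v := A.mod.smul_img hy hvy
      set s := a * y with hs
      have hzs : Commute z s := by rw [hz, hs]; exact T.commute_ac
      clear_value s
      have hsu : s * u * s⁻¹ = z⁻¹ * u := by
        have h1 := T.comm_rel
        rw [← hu, ← hs, ← hz] at h1
        calc s * u * s⁻¹ = z⁻¹ * (z * (s * u)) * s⁻¹ := by group
          _ = z⁻¹ * u := by rw [← h1]; group
      have hyuy : y * u * y = z⁻¹ * u⁻¹ := by
        have hyas : y = a * s := by rw [hs, mul_self_mul A.mod.closed.set ha]
        have hsy : y = s⁻¹ * a := by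
          rw [hs, T.inv_ac, mul_assoc, A.mod.sq ha, mul_one]
        calc y * u * y = (a * s) * u * (s⁻¹ * a) := by rw [← hyas, ← hsy]
          _ = a * (s * u * s⁻¹) * a := by group
          _ = z⁻¹ * (a * u * a) := by
            rw [hsu, ← mul_assoc, (hza.symm.inv_right).eq]; simp only [mul_assoc]
          _ = z⁻¹ * u⁻¹ := by rw [hu, hP.inv_fst A.mod]
      have hnuz : nrm (u * z) v = 0 := by
        rw [← nrm_inv (by rw [hzu.symm.mul_pow, hu3, hz3, one_mul]), mul_inv_rev, ← hyuy, ← hyv,
          ← nrm_conj (A.mod.sq hy), hnu, smul_zero]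
      set m := u * z * z with hm
      have hm3 : m ^ 3 = 1 := by
        rw [hm, (hzu.symm.mul_left (Commute.refl z)).mul_pow, hzu.symm.mul_pow, hu3, hz3, one_mul, one_mul]
      have hymy : y * m * y = m⁻¹ := by
        have e1 : z⁻¹ = z * z := inv_eq_of_mul_eq_one_right (by
          have := hz3; simpa [pow_succ, mul_assoc] using this)
        calc y * m * y = (y * u * y) * (z * z) := by
              have h1 : Commute (z * z) y := hzy.mul_left hzy
              rw [hm, mul_assoc u z z, ← mul_assoc y u (z * z), mul_assoc (y * u) (z * z) y, h1.eq, ← mul_assoc]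
          _ = z⁻¹ * u⁻¹ * (z * z) := by rw [hyuy]
          _ = m⁻¹ := by
            rw [hm, mul_inv_rev, mul_inv_rev, ← e1]
            rw [mul_assoc, (hzu.symm.inv_left.inv_right).eq]
      have hvm : m • v = v := by
        have hnm : nrm m v = v := by
          have f := five_sum A.mod.add_self u z v
          have e1 : v + u • (z • v) + u • (u • (z • (z • v))) = nrm (u * z) v := by
            simp only [nrm, mul_smul]
            congr 2
            rw [← mul_smul z u, hzu.eq, mul_smul]
          have e2 : v + u • (z • (z • v)) + u • (u • (z • v)) = nrm m v := by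
            have hz' : z • (z • (z • v)) = v := by
              rw [← mul_smul, ← mul_smul, show z * z * z = z ^ 3 by simp [pow_succ], hz3, one_smul]
            simp only [nrm, hm, mul_smul]
            congr 2
            have hc' : ∀ x : V, z • (u • x) = u • (z • x) := fun x => by rw [← mul_smul, hzu.eq, mul_smul]
            rw [hc', hc', ← hc' (z • z • z • v)]
            rw [hc', hz']
          rw [e1, e2, hnu, hnz, hnuz] at f
          have e3 : nrm u (0 : V) = 0 := by simp [nrm]
          rw [e3] at f
          simpa using f
        have := smul_nrm hm3 v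
        rwa [hnm] at this
      set y' := m * m * y * (m * m)⁻¹ with hy'
      have hy'D : y' ∈ D := A.mod.closed.conj _ _ hy
      have hy'y : y' * y = m := by
        have h1 : y * (m * m)⁻¹ * y = m * m := by
          have h2 : y * m⁻¹ * y = m := by
            rw [← hymy]; simp [mul_assoc, A.mod.sq hy, mul_self_mul A.mod.closed.set hy]
          calc y * (m * m)⁻¹ * y = (y * m⁻¹ * y) * (y * m⁻¹ * y) := by
                simp [mul_inv_rev, mul_assoc, mul_self_mul A.mod.closed.set hy]
            _ = m * m := by rw [h2]
        calc y' * y = m * m * (y * (m * m)⁻¹ * y) := by rw [hy']; group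
          _ = m ^ 3 * m := by rw [h1]; simp [pow_succ, mul_assoc]
          _ = m := by rw [hm3, one_mul]
      have hne : ¬ Commute y' y := by
        intro k
        have h1 : (y' * y) ^ 2 = 1 := (sq_eq_one_iff A.mod.closed.set hy'D hy).mpr k
        rw [hy'y] at h1
        have hm1 : m = 1 := by
          have := hm3; rw [pow_succ, h1, one_mul] at this; exact this
        have hus : Commute u s := by
          have e1 : u = (z * z)⁻¹ := eq_inv_of_mul_eq_one_left (by rw [← mul_assoc, ← hm, hm1])
          rw [e1]; exact (hzs.mul_left hzs).inv_left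
        have hz1 : z = 1 := by
          have h1 := T.comm_rel
          rw [← hu, ← hs, ← hz, ← hus.eq] at h1
          exact mul_eq_right.mp h1.symm
        have hu1 : u = 1 := by rw [hm, hz1, mul_one, mul_one] at hm1; exact hm1
        exact hP.ab_eq_one_false A.mod (hu ▸ hu1)
      obtain ⟨h1, -⟩ := A.mod.fix_both hy'D hy hne (by rw [hy'y]; exact hvm)
      exact A.mod.fix_zero hy hy'D (fun k => hne k.symm) hvy h1
    -- hence it fixes `img c`
    set g := y * c with hg
    have hgc : g * y * g⁻¹ = c := by
      have hbr : y * c * y = c * y * c := braid A.mod.closed.set hy hcD (fun k => hcy k.symm)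
      calc g * y * g⁻¹ = y * c * y * c * y := by
            rw [hg, mul_inv_rev, hci, inv_eq A.mod.closed.set hy]; simp [mul_assoc]
        _ = c * y * c * c * y := by rw [hbr]
        _ = c := by simp [mul_assoc, A.mod.sq hy, mul_self_mul A.mod.closed.set hcD]
    have hgy : g⁻¹ * c * g = y := by rw [← hgc]; group
    have hx : g⁻¹ • (w + c • w) ∈ img V y := by
      have h1 := smul_mem_img g⁻¹ (mem_img.mpr ⟨w, rfl⟩ : w + c • w ∈ img V c)
      rw [inv_inv, hgy] at h1
      exact h1
    have h2 := hfix _ hx
    rw [← mul_smul, (((hey.mul_right hec).inv_right : Commute e g⁻¹)).eq, mul_smul] at h2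
    exact MulAction.injective g⁻¹ h2

end two

/-- Two such classes for one module coincide. -/
theorem subset_other (A : IsClassMod V D) (B : IsClassMod V E)
    (faith : ∀ g : H, (∀ v : V, g • v = v) → g = 1)
    (hcent : ∀ g : H, (∀ x : H, Commute g x) → g * g = 1 → g = 1) : E ⊆ D := by
  intro e he
  by_contra heD
  obtain ⟨a, ha, h⟩ : ∃ a ∈ D, ¬ Commute e a := by
    by_contra hall
    push Not at hall
    have hc := mem_center_of_commute A.gen hall
    exact ne_one B.mod.closed.set he (hcent e (fun x => (Subgroup.mem_center_iff.mp hc x).symm) (B.mod.sq he))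
  obtain ⟨hcD, hec, -, -⟩ := A.third B faith he ha h
  set c := a * (e * a * e) * a with hc
  have hkey : ∀ y ∈ D, Commute (e * c) y := by
    intro y hy
    by_cases hey : Commute e y
    · exact hey.mul_left ((A.same_commuting B faith he ha h heD hy).mpr hey)
    obtain ⟨hyD, -, -, -⟩ := A.third B faith he hy hey
    have heq : y * (e * y * e) * y = c := A.twins _ _ ⟨hyD, hcD, fun x hx =>
      (A.same_commuting B faith he ha h heD hx).trans (A.same_commuting B faith he hy hey heD hx).symm⟩
    have hcy : ¬ Commute y c := fun k => hey ((A.same_commuting B faith he ha h heD hy).mp k.symm)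
    have hbr : y * c * y = c * y * c := braid A.mod.closed.set hy hcD hcy
    have e1 : c * y * c = e * y * e := by
      rw [← hbr, ← heq]; simp [mul_assoc, A.mod.sq hy, mul_self_mul A.mod.closed.set hy]
    have hse := B.mod.sq he
    have hsc := A.mod.sq hcD
    have e2 : c * y = e * y * e * c := by rw [← e1, mul_assoc (c * y) c c, hsc, mul_one]
    calc e * c * y = e * (e * y * e * c) := by rw [mul_assoc, e2]
      _ = y * (e * c) := by simp only [← mul_assoc, hse, one_mul]
  have hh : e * c = 1 := hcent _ (fun x => (Subgroup.mem_center_iff.mp (mem_center_of_commute A.gen hkey) x).symm)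
    (by rw [mul_assoc, ← mul_assoc c e c, ← hec.eq, mul_assoc e c c, A.mod.sq hcD, mul_one, B.mod.sq he])
  exact heD (by rw [mul_eq_one_iff_eq_inv.mp hh, inv_eq A.mod.closed.set hcD]; exact hcD)

end IsClassMod

end CfsgLib.TwoRadical
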