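import Cfsg.Agent.Lib.TwoRadical.Construct
import Cfsg.Agent.Lib.TwoRadical.TwoClasses

/-!
# An elementary abelian 2-radical determines the class of 3-transpositions
-/

set_option autoImplicit false
set_option linter.unusedSectionVars false
set_option linter.style.haveILetI false

namespace CfsgLib.TwoRadical

open Cfsg CfsgLib.ThreeTrans

universe u

variable {G : Type u} [Group G] [Finite G]

theorem two_members_of_center {D : Set G} (hD : IsThreeTranspositionClass D) (hZ : Subgroup.center G = ⊥) :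
    ∃ a ∈ D, ∃ b ∈ D, a ≠ b := by
  by_contra h
  push Not at h
  obtain ⟨d, hd, -⟩ := hD.2.1
  have hc := mem_center_of_commute hD.2.2 (x := d) (fun e he => by rw [h d hd e he])
  rw [hZ, Subgroup.mem_bot] at hc
  exact ne_one hD.1 hd hc

theorem central_sq_eq_one {g : G ⧸ pCore 2 G} (hg : ∀ x, Commute g x) (h2 : g * g = 1) : g = 1 := by
  have : Fact (Nat.Prime 2) := ⟨Nat.prime_two⟩
  have hn : (Subgroup.zpowers g).Normal := ⟨fun z hz x => by
    obtain ⟨k, rfl⟩ := Subgroup.mem_zpowers_iff.mp hz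
    rw [((hg x).zpow_left k).symm.eq, mul_inv_cancel_right]
    exact Subgroup.mem_zpowers_iff.mpr ⟨k, rfl⟩⟩
  have hp : IsPGroup 2 (Subgroup.zpowers g) := by
    rintro ⟨z, hz⟩
    obtain ⟨k, rfl⟩ := Subgroup.mem_zpowers_iff.mp hz
    refine ⟨1, Subtype.ext ?_⟩
    show (g ^ k) ^ (2 ^ 1) = 1
    rw [pow_one, pow_two, ← (Commute.refl g).mul_zpow, h2, one_zpow]
  have h := CfsgLib.PCore.le_pCore hn hp (Subgroup.mem_zpowers g)
  rw [CfsgLib.PCore.pCore_quotient_pCore, Subgroup.mem_bot] at h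
  exact h

theorem class_mem_iff {D E : Set G} (hD : IsThreeTranspositionClass D) (hE : IsThreeTranspositionClass E)
    {e : G} (heE : e ∈ E) (heD : e ∈ D) : E = D := by
  refine Set.ext fun x => ⟨fun hx => ?_, fun hx => ?_⟩
  · obtain ⟨g, rfl⟩ := class_conj hE heE hx
    exact (conjClosed_of_class hD).conj g e heD
  · obtain ⟨g, rfl⟩ := class_conj hD heD hx
    exact (conjClosed_of_class hE).conj g e heE

/-- With an elementary abelian self-centralising 2-core there is only one class. -/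
theorem eq_of_elementary {D E : Set G} (hD : IsThreeTranspositionClass D) (hE : IsThreeTranspositionClass E)
    (hZ : Subgroup.center G = ⊥) (hV : IsElementaryAbelian 2 (pCore 2 G))
    (hC : Subgroup.centralizer (pCore 2 G : Set G) ≤ pCore 2 G) : E = D := by
  have hD2 := two_members_of_center hD hZ
  have hE2 := two_members_of_center hE hZ
  obtain ⟨V, instV, instA, ι, hbij, hadd, hsmul, hmod, faith⟩ := exists_module hV hC
  letI := instV
  letI := instA
  have : Finite V := Finite.of_surjective ι hbij.2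
  have hqn : (pCore 2 G).Normal := pCore_normal 2 G
  have A : IsClassMod V (imgClass D) :=
    ⟨hmod D hD hD2, fun a b h => twins_imgClass hD hD2 h, (class_imgClass hD hD2).2.2⟩
  have B : IsClassMod V (imgClass E) :=
    ⟨hmod E hE hE2, fun a b h => twins_imgClass hE hE2 h, (class_imgClass hE hE2).2.2⟩
  have himg : imgClass E = imgClass D :=
    le_antisymm (A.subset_other B faith fun g hg => central_sq_eq_one hg)
      (B.subset_other A faith fun g hg => central_sq_eq_one hg)
  have M := A.mod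
  have hι0 : ι 1 = 0 := by
    have h := hadd 1 1
    rw [mul_one] at h
    exact left_eq_add.mp h
  have hQc : ∀ {q : G}, q ∈ pCore 2 G → q⁻¹ = q := fun hq =>
    inv_eq_of_mul_eq_one_right (by rw [← pow_two]; exact hV.2 _ hq)
  -- the displacement from `D` to `E`
  let R : G ⧸ pCore 2 G → V → Prop := fun h x =>
    ∃ d ∈ D, QuotientGroup.mk d = h ∧ ∃ q : pCore 2 G, ι q = x ∧ (q : G) * d ∈ E
  have mkQ : ∀ q : pCore 2 G, (QuotientGroup.mk (q : G) : G ⧸ pCore 2 G) = 1 := fun q =>
    (QuotientGroup.eq_one_iff _).mpr q.2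
  have Rex : ∀ h ∈ imgClass D, ∃ x, R h x := by
    intro h hh
    obtain ⟨d, hd, rfl⟩ := hh
    obtain ⟨e, he, hed⟩ : (QuotientGroup.mk d : G ⧸ pCore 2 G) ∈ imgClass E := himg ▸ ⟨d, hd, rfl⟩
    have hq : e * d ∈ pCore 2 G := by
      rw [← QuotientGroup.eq_one_iff, QuotientGroup.mk_mul, hed, ← QuotientGroup.mk_mul, mul_self hD.1 hd,
        QuotientGroup.mk_one]
    exact ⟨_, d, hd, rfl, ⟨e * d, hq⟩, rfl, by rw [mul_assoc, mul_self hD.1 hd, mul_one]; exact he⟩
  have Rmem : ∀ h x, R h x → h ∈ imgClass D := fun h x ⟨d, hd, e, _⟩ => ⟨d, hd, e⟩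
  have Rfix : ∀ h x, R h x → h • x = x := by
    rintro _ _ ⟨d, hd, rfl, q, rfl, hqE⟩
    rw [hsmul]
    refine congrArg ι (Subtype.ext ?_)
    show d * q * d⁻¹ = q
    have h1 := mul_self hE.1 hqE
    rw [inv_eq hD.1 hd]
    calc d * (q : G) * d = (q : G)⁻¹ * ((q : G) * d * ((q : G) * d)) := by group
      _ = q := by rw [h1, mul_one, hQc q.2]
  have Requiv : ∀ g h x, R h x → R (g * h * g⁻¹) (g • x) := by
    rintro g _ _ ⟨d, hd, rfl, q, rfl, hqE⟩
    obtain ⟨g, rfl⟩ := QuotientGroup.mk_surjective g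
    refine ⟨g * d * g⁻¹, (conjClosed_of_class hD).conj g d hd, by simp, _, (hsmul g q).symm, ?_⟩
    have := (conjClosed_of_class hE).conj g _ hqE
    show g * q * g⁻¹ * (g * d * g⁻¹) ∈ E
    convert this using 1
    group
  have Rshift : ∀ h x, R h x → ∀ w ∈ img V h, R h (x + w) := by
    rintro _ _ ⟨d, hd, rfl, q, rfl, hqE⟩ w hw
    obtain ⟨v, rfl⟩ := mem_img.mp hw
    obtain ⟨r, rfl⟩ := hbij.2 v
    refine ⟨d, hd, rfl, q * (r * ⟨d * r * d⁻¹, hqn.conj_mem r r.2 d⟩), by rw [hadd, hadd, hsmul], ?_⟩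
    have := (conjClosed_of_class hE).conj (r : G) _ hqE
    show (q : G) * ((r : G) * (d * r * d⁻¹)) * d ∈ E
    have e1 : (q : G) * ((r : G) * (d * r * d⁻¹)) * d = (r : G) * ((q : G) * d) * (r : G)⁻¹ := by
      have hc : (q : G) * r = r * q := congrArg Subtype.val (hV.1.is_comm.comm q r)
      rw [hQc r.2, ← mul_assoc (q : G), hc, inv_eq hD.1 hd]
      simp [mul_assoc, mul_self hD.1 hd]
    rw [e1]; exact this
  have Rcomm : ∀ h x k x', R h x → R k x' → Commute h k → k • x = x := by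
    intro h x k x' hx hx' hc
    by_cases hk : h = k
    · rw [← hk]; exact Rfix h x hx
    have hfix := Rfix k x' hx'
    obtain ⟨d, hd, rfl, q, rfl, hqE⟩ := hx
    obtain ⟨c, hcD, rfl, q', rfl, hqE'⟩ := hx'
    have hee : Commute ((q : G) * d) ((q' : G) * c) := commute_of_mk hE hqE hqE' (by
      simpa [mkQ] using hc)
    have hdc := commute_of_mk hD hd hcD hc
    have e1 : (q : G) * (d * q' * d⁻¹) = q' * (c * q * c⁻¹) := by
      have e3 : (q : G) * (d * q' * d⁻¹) * (d * c) = (q : G) * d * ((q' : G) * c) := by group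
      have e4 : (q' : G) * (c * q * c⁻¹) * (c * d) = (q' : G) * c * ((q : G) * d) := by group
      rw [hee.eq, ← e4, hdc.eq] at e3
      exact mul_right_cancel e3
    have e2 := congrArg ι (show q * ⟨d * q' * d⁻¹, hqn.conj_mem q' q'.2 d⟩ = q' * ⟨c * q * c⁻¹, hqn.conj_mem q q.2 c⟩
      from Subtype.ext e1)
    rw [hadd, hadd, ← hsmul, ← hsmul] at e2
    have e5 : ι q + (QuotientGroup.mk c : G ⧸ pCore 2 G) • ι q =
        ι q' + (QuotientGroup.mk d : G ⧸ pCore 2 G) • ι q' := by
      calc ι q + _ = (ι q + (QuotientGroup.mk d : G ⧸ pCore 2 G) • ι q') +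
            ((QuotientGroup.mk c : G ⧸ pCore 2 G) • ι q + (QuotientGroup.mk d : G ⧸ pCore 2 G) • ι q') := by
            calc ι q + (QuotientGroup.mk c : G ⧸ pCore 2 G) • ι q = ι q + (QuotientGroup.mk c : G ⧸ pCore 2 G) • ι q +
                  ((QuotientGroup.mk d : G ⧸ pCore 2 G) • ι q' + (QuotientGroup.mk d : G ⧸ pCore 2 G) • ι q') := by
                  rw [M.add_self, add_zero]
              _ = _ := by abel
        _ = ι q' + (QuotientGroup.mk d : G ⧸ pCore 2 G) • ι q' +
            ((QuotientGroup.mk c : G ⧸ pCore 2 G) • ι q + (QuotientGroup.mk c : G ⧸ pCore 2 G) • ι q) := by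
            rw [e2]; abel
        _ = _ := by rw [M.add_self, add_zero]
    exact (M.eq_of_add (A.inter_zero ⟨d, hd, rfl⟩ ⟨c, hcD, rfl⟩ hk (e5 ▸ mem_img.mpr ⟨ι q', rfl⟩)
      (mem_img.mpr ⟨ι q, rfl⟩))).symm
  have Rfar : ∀ h x k x', R h x → R k x' → ¬ Commute h k → nrm (h * k) x = nrm (h * k) x' := by
    intro h x k x' hx hx' hne
    obtain ⟨d, hd, rfl, q, rfl, hqE⟩ := hx
    obtain ⟨c, hcD, rfl, q', rfl, hqE'⟩ := hx'
    have hhne : ¬ Commute ((q : G) * d) ((q' : G) * c) := fun hh => hne (by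
      simpa [mkQ] using hh.map (QuotientGroup.mk' (pCore 2 G)))
    have hdne : ¬ Commute d c := fun hh => hne (hh.map (QuotientGroup.mk' (pCore 2 G)))
    have h3 := pow_three_of_not_commute hE.1 hqE hqE' hhne
    have ht3 := pow_three_of_not_commute hD.1 hd hcD hdne
    set t := d * c with ht
    set r : pCore 2 G := q * ⟨d * q' * d⁻¹, hqn.conj_mem q' q'.2 d⟩ with hr
    set r1 : pCore 2 G := ⟨t * r * t⁻¹, hqn.conj_mem r r.2 t⟩ with hr1
    set r2 : pCore 2 G := ⟨t * r1 * t⁻¹, hqn.conj_mem r1 r1.2 t⟩ with hr2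
    have hprod : r * r1 * r2 = 1 := by
      apply Subtype.ext
      show (r : G) * (t * r * t⁻¹) * (t * (t * r * t⁻¹) * t⁻¹) = 1
      calc (r : G) * (t * r * t⁻¹) * (t * (t * r * t⁻¹) * t⁻¹) = ((r : G) * t) * ((r : G) * t) * ((r : G) * t) * (t ^ 3)⁻¹ := by
            group
        _ = ((q : G) * d * ((q' : G) * c)) ^ 3 := by
            rw [ht3, inv_one, mul_one, show (r : G) * t = (q : G) * d * ((q' : G) * c) by
              rw [hr, ht]; simp [mul_assoc]]
            simp [pow_succ, mul_assoc]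
        _ = 1 := h3
    have e := congrArg ι hprod
    have i1 : ι r1 = (QuotientGroup.mk t : G ⧸ pCore 2 G) • ι r := (hsmul t r).symm
    have i2 : ι r2 = (QuotientGroup.mk t : G ⧸ pCore 2 G) • ι r1 := (hsmul t r1).symm
    have i0 : ι r = ι q + (QuotientGroup.mk d : G ⧸ pCore 2 G) • ι q' := by rw [hr, hadd, ← hsmul]
    rw [hadd, hadd, hι0, i2, i1, i0, ht, QuotientGroup.mk_mul] at e
    have e' : nrm ((QuotientGroup.mk d : G ⧸ pCore 2 G) * QuotientGroup.mk c)
        (ι q + (QuotientGroup.mk d : G ⧸ pCore 2 G) • ι q') = 0 := e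
    rw [nrm_add, M.nrm_smul_left ⟨d, hd, rfl⟩ ⟨c, hcD, rfl⟩ hne] at e'
    exact M.eq_of_add e'
  obtain ⟨e, he⟩ : E.Nonempty := let ⟨e, he, _⟩ := hE.2.1; ⟨e, he⟩
  obtain ⟨d, hd, hde⟩ : (QuotientGroup.mk e : G ⧸ pCore 2 G) ∈ imgClass D := himg ▸ ⟨e, he, rfl⟩
  have hq : e * d ∈ pCore 2 G := by
    rw [← QuotientGroup.eq_one_iff, QuotientGroup.mk_mul, ← hde, ← QuotientGroup.mk_mul, mul_self hD.1 hd,
      QuotientGroup.mk_one]
  set h : G ⧸ pCore 2 G := QuotientGroup.mk d with hh
  have hx : R h (ι ⟨e * d, hq⟩) :=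
    ⟨d, hd, rfl, _, rfl, by rw [mul_assoc, mul_self hD.1 hd, mul_one]; exact he⟩
  set x := ι ⟨e * d, hq⟩ with hxdef
  suffices hxi : x ∈ img V h by
    obtain ⟨v, hv⟩ := mem_img.mp hxi
    obtain ⟨q, rfl⟩ := hbij.2 v
    rw [hsmul, ← hadd] at hv
    have h1 : (q : G) * (d * q * d⁻¹) = e * d := congrArg Subtype.val (hbij.1 hv)
    refine class_mem_iff hD hE he ?_
    have h2 : e = (q : G) * d * (q : G)⁻¹ := by
      rw [hQc q.2]
      calc e = e * d * d := by rw [mul_assoc, mul_self hD.1 hd, mul_one]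
        _ = _ := by rw [← h1, inv_eq hD.1 hd]; simp [mul_assoc, mul_self hD.1 hd]
    rw [h2]; exact (conjClosed_of_class hD).conj _ d hd
  have hhD : h ∈ imgClass D := ⟨d, hd, rfl⟩
  obtain ⟨k, hk, hhk⟩ : ∃ k ∈ imgClass D, ¬ Commute h k := by
    by_contra hall
    push Not at hall
    exact ne_one M.closed.set hhD (central_sq_eq_one
      (fun y => (Subgroup.mem_center_iff.mp (mem_center_of_commute A.gen hall) y).symm) (M.sq hhD))
  obtain ⟨x', hx'⟩ := Rex k hk
  set y := nrm (h * k) x with hy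
  have hy' : y = nrm (h * k) x' := Rfar h x k x' hx hx' hhk
  have hRy : R h y := by
    have := Rshift h x hx _ (M.add_nrm_mem hhD hk hhk (Rfix h x hx))
    rwa [← add_assoc, M.add_self, zero_add] at this
  have hinv : (h * k)⁻¹ = k * h := by rw [mul_inv_rev, inv_eq M.closed.set hhD, inv_eq M.closed.set hk]
  have hRk : R k y := by
    have h1 : y = nrm (k * h) x' := by rw [hy', ← hinv, nrm_inv (M.cube hhD hk hhk)]
    have := Rshift k x' hx' _ (M.add_nrm_mem hk hhD (fun c => hhk c.symm) (Rfix k x' hx'))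
    rw [← add_assoc, M.add_self, zero_add] at this
    rwa [h1]
  have hall : ∀ c ∈ imgClass D, c • y = y := by
    intro c hc
    obtain ⟨x'', hx''⟩ := Rex c hc
    by_cases h1 : Commute h c
    · exact Rcomm h y c x'' hRy hx'' h1
    by_cases h2 : Commute k c
    · exact Rcomm k y c x'' hRk hx'' h2
    by_cases h3 : Commute k (h * c * h)
    · have hR := Requiv h k y hRk
      rw [Rfix h y hRy, inv_eq M.closed.set hhD] at hR
      refine Rcomm _ y c x'' hR hx'' ?_
      have h4 := (commute_conj_iff h k (h * c * h)).mpr h3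
      rw [inv_eq M.closed.set hhD] at h4
      simpa [mul_assoc, M.sq hhD, mul_self_mul M.closed.set hhD] using h4
    have P : Plane (imgClass D) h k c := ⟨hhD, hk, hc, hhk, h1, h2, h3⟩
    have T := P.tri M
    set z := zel h k c with hz
    have hzR : R h (z • y) := by
      have := Requiv z h y hRy
      rwa [T.commute_a.eq, mul_inv_cancel_right] at this
    have ht : (h * k) • y = y := smul_nrm (M.cube hhD hk hhk) x
    have e1 : nrm (h * k) (z • y) = z • y := M.nrm_fixed (by
      rw [← mul_smul, ← T.commute_ab.eq, mul_smul, ht])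
    have hzy : z • y = y := by
      rw [← e1, Rfar h (z • y) k x' hzR hx' hhk, ← hy']
    exact (P.fixed_of_zel M hzy).2.2
  have hy0 : y = 0 := by
    obtain ⟨q, hqy⟩ := hbij.2 y
    have hcen : (q : G) ∈ Subgroup.center G := by
      refine Subgroup.mem_center_iff.mpr fun g => ?_
      have hg : (QuotientGroup.mk g : G ⧸ pCore 2 G) • y = y := by
        have hgm : (QuotientGroup.mk g : G ⧸ pCore 2 G) ∈ Subgroup.closure (imgClass D) := by
          rw [A.gen]; trivial
        refine (Subgroup.closure_le (MulAction.stabilizer _ y)).mpr ?_ hgm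
        exact fun c hc => MulAction.mem_stabilizer_iff.mpr (hall c hc)
      rw [← hqy, hsmul] at hg
      exact mul_inv_eq_iff_eq_mul.mp (congrArg Subtype.val (hbij.1 hg))
    rw [hZ, Subgroup.mem_bot] at hcen
    rw [← hqy, show q = 1 from Subtype.ext hcen, hι0]
  have := M.add_nrm_mem hhD hk hhk (Rfix h x hx)
  rwa [← hy, hy0, add_zero] at this

end CfsgLib.TwoRadical
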